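/-
Signed sums over the subspaces of a finite vector space, and the sum of the cuspidal weight over
the homomorphisms between two spaces.
-/
import Mathlib

set_option autoImplicit false
set_option linter.style.haveILetI false
set_option linter.unusedSectionVars false

namespace Cfsg.Agent.GLCusp

open Finset

/-- The cuspidal weight: `0` at `0`, and `(1 - Q) ⋯ (1 - Q ^ (k - 1))` at `k > 0`. -/
def fw (Q : ℂ) : ℕ → ℂ
  | 0 => 0
  | k + 1 => ∏ i ∈ range k, (1 - Q ^ (i + 1))

theorem fw_one (Q : ℂ) : fw Q 1 = 1 := by simp [fw]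

theorem fw_succ (Q : ℂ) {k : ℕ} (hk : k ≠ 0) : fw Q (k + 1) = fw Q k * (1 - Q ^ k) := by
  obtain ⟨j, rfl⟩ := Nat.exists_eq_succ_of_ne_zero hk
  simp [fw, prod_range_succ]

/-- The Moebius weight. -/
def mw (Q : ℂ) (j : ℕ) : ℂ := (-1) ^ j * Q ^ j.choose 2

/-- The weighted Moebius weight. -/
def ww (Q : ℂ) (j : ℕ) : ℂ := -(j : ℂ) * mw Q j

theorem mw_succ (Q : ℂ) (i : ℕ) : mw Q (i + 1) = -(Q ^ i * mw Q i) := by
  rw [mw, mw, Nat.choose_succ_succ', Nat.choose_one_right, pow_succ, pow_add]
  ring

variable {K : Type*} [Field K] [Finite K]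

section graph

variable {C : Type*} [AddCommGroup C] [Module K C]

/-- The graph of a functional on a subspace. -/
def graphSub (X : Submodule K C) (l : X →ₗ[K] K) : Submodule K (C × K) :=
  LinearMap.range (X.subtype.prod l)

theorem mem_graphSub {X : Submodule K C} {l : X →ₗ[K] K} {z : C × K} :
    z ∈ graphSub X l ↔ ∃ x : X, ((x : C), l x) = z := Iff.rfl

theorem notMem_graphSub (X : Submodule K C) (l : X →ₗ[K] K) :
    ((0, 1) : C × K) ∉ graphSub X l := by
  rintro ⟨x, hx⟩
  have h1 : (x : C) = 0 := congrArg Prod.fst hx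
  have h2 : l x = 1 := congrArg Prod.snd hx
  rw [show x = 0 from Subtype.ext h1, map_zero] at h2
  exact zero_ne_one h2

/-- A subspace of `C × K` is a cylinder or the graph of a functional. -/
def ofPair : (Σ X : Submodule K C, Option (X →ₗ[K] K)) → Submodule K (C × K)
  | ⟨X, none⟩ => X.prod ⊤
  | ⟨X, some l⟩ => graphSub X l

theorem ofPair_bijective : Function.Bijective (ofPair (K := K) (C := C)) := by
  constructor
  · rintro ⟨X, o⟩ ⟨Y, o'⟩ h
    have hX : ∀ (X : Submodule K C) (o : Option (X →ₗ[K] K)),
        (ofPair ⟨X, o⟩).map (LinearMap.fst K C K) = X := by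
      rintro X (_ | l)
      · ext c
        simp [ofPair]
      · ext c
        simp [ofPair, mem_graphSub]
    obtain rfl : X = Y := by rw [← hX X o, h, hX Y o']
    refine congrArg (Sigma.mk X) ?_
    rcases o with _ | l <;> rcases o' with _ | l'
    · rfl
    · exact absurd (h.le (by simp [ofPair] : ((0, 1) : C × K) ∈ ofPair ⟨X, none⟩))
        (notMem_graphSub X l')
    · exact absurd (h.ge (by simp [ofPair] : ((0, 1) : C × K) ∈ ofPair ⟨X, none⟩))
        (notMem_graphSub X l)
    · refine congrArg some (LinearMap.ext fun x => ?_)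
      obtain ⟨y, hy⟩ := mem_graphSub.1 (h.le ⟨x, rfl⟩ : ((x : C), l x) ∈ graphSub X l')
      obtain rfl : y = x := Subtype.ext (congrArg Prod.fst hy)
      exact (congrArg Prod.snd hy).symm
  · intro W
    by_cases h : ((0, 1) : C × K) ∈ W
    · refine ⟨⟨W.map (LinearMap.fst K C K), none⟩, ?_⟩
      ext ⟨c, a⟩
      simp only [ofPair, Submodule.mem_prod, Submodule.mem_top, and_true, Submodule.mem_map]
      constructor
      · rintro ⟨⟨c', b⟩, hW, rfl⟩
        have := W.add_mem hW (W.smul_mem (a - b) h)
        simpa using this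
      · exact fun hW => ⟨(c, a), hW, rfl⟩
    · have hinj : Function.Injective ((LinearMap.fst K C K).comp W.subtype) := by
        rw [← LinearMap.ker_eq_bot, Submodule.eq_bot_iff]
        rintro ⟨⟨c, a⟩, hW⟩ hc
        obtain rfl : c = 0 := hc
        by_contra hne
        have ha : a ≠ 0 := fun e => hne (Subtype.ext (by simp [e]))
        apply h
        have := W.smul_mem a⁻¹ hW
        simpa [ha] using this
      let e := LinearEquiv.ofInjective _ hinj
      refine ⟨⟨_, some (((LinearMap.snd K C K).comp W.subtype).comp e.symm.toLinearMap)⟩, ?_⟩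
      show graphSub _ _ = W
      ext z
      rw [mem_graphSub]
      constructor
      · rintro ⟨x, rfl⟩
        obtain ⟨w, rfl⟩ := e.surjective x
        simp [e]
      · intro hz
        exact ⟨e ⟨z, hz⟩, by simp [e]⟩

theorem finrank_graphSub [FiniteDimensional K C] (X : Submodule K C) (l : X →ₗ[K] K) :
    Module.finrank K (graphSub X l) = Module.finrank K X :=
  LinearMap.finrank_range_of_inj fun _ _ h => Subtype.ext (congrArg Prod.fst h)

theorem finrank_prodTop [FiniteDimensional K C] (X : Submodule K C) :
    Module.finrank K (X.prod (⊤ : Submodule K K)) = Module.finrank K X + 1 := by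
  have h := LinearEquiv.finrank_eq
    (LinearEquiv.ofBijective ((X.subtype.prodMap (⊤ : Submodule K K).subtype).codRestrict
      (X.prod (⊤ : Submodule K K)) (fun z => ⟨z.1.2, trivial⟩))
      ⟨fun a b h => by
        have h' := congrArg Subtype.val h
        exact Prod.ext (Subtype.ext (congrArg Prod.fst h')) (Subtype.ext (congrArg Prod.snd h')),
       fun z => ⟨(⟨z.1.1, z.2.1⟩, ⟨z.1.2, trivial⟩), rfl⟩⟩)
  rw [← h, Module.finrank_prod, finrank_top, Module.finrank_self]

end graph

/-- The sum of a function of the dimension over all subspaces. -/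
noncomputable def subSum (K : Type*) [Field K] (V : Type*) [AddCommGroup V] [Module K V]
    (φ : ℕ → ℂ) : ℂ :=
  ∑ᶠ W : Submodule K V, φ (Module.finrank K W)

theorem subSum_congr {V V' : Type*} [AddCommGroup V] [Module K V] [AddCommGroup V'] [Module K V']
    (e : V ≃ₗ[K] V') (φ : ℕ → ℂ) : subSum K V φ = subSum K V' φ :=
  finsum_eq_of_bijective (fun W => W.map e.toLinearMap) (Submodule.orderIsoMapComap e).bijective
    fun W => congrArg φ (LinearEquiv.finrank_eq (e.submoduleMap W))

theorem subSum_prod {C : Type*} [AddCommGroup C] [Module K C] [FiniteDimensional K C]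
    (φ : ℕ → ℂ) :
    subSum K (C × K) φ = subSum K C fun i => φ (i + 1) + (Nat.card K : ℂ) ^ i * φ i := by
  classical
  haveI : Finite C := Module.finite_of_finite K
  haveI : Finite (Submodule K C) := Finite.of_injective _ SetLike.coe_injective
  haveI : ∀ X : Submodule K C, Finite (X →ₗ[K] K) := fun X =>
    Finite.of_injective _ DFunLike.coe_injective
  letI := Fintype.ofFinite (Submodule K C)
  letI : ∀ X : Submodule K C, Fintype (X →ₗ[K] K) := fun X => Fintype.ofFinite _
  rw [subSum, subSum, ← finsum_eq_of_bijective ofPair ofPair_bijective (fun _ => rfl),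
    finsum_eq_sum_of_fintype, finsum_eq_sum_of_fintype, Fintype.sum_sigma]
  refine Finset.sum_congr rfl fun X _ => ?_
  have h1 : φ (Module.finrank K (ofPair ⟨X, none⟩)) = φ (Module.finrank K X + 1) :=
    congrArg φ (finrank_prodTop X)
  have h2 : ∀ l : X →ₗ[K] K,
      φ (Module.finrank K (ofPair ⟨X, some l⟩)) = φ (Module.finrank K X) :=
    fun l => congrArg φ (finrank_graphSub X l)
  rw [Fintype.sum_option, h1, Finset.sum_congr rfl fun l _ => h2 l, Finset.sum_const,
    Finset.card_univ, nsmul_eq_mul]
  congr 2
  rw [← Nat.card_eq_fintype_card, Module.natCard_eq_pow_finrank (K := K),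
    Module.finrank_linearMap_self]
  push_cast
  rfl

/-- The `q`-binomial theorem. -/
theorem subSum_mw_pi (k : ℕ) : ∀ x : ℂ,
    subSum K (Fin k → K) (fun i => mw (Nat.card K) i * x ^ i) =
      ∏ i ∈ range k, (1 - (Nat.card K : ℂ) ^ i * x) := by
  induction k with
  | zero =>
    intro x
    haveI : Unique (Submodule K (Fin 0 → K)) := uniqueOfSubsingleton ⊥
    rw [subSum, finsum_unique]
    simp only [Module.finrank_zero_of_subsingleton]
    simp [mw]
  | succ k ih =>
    intro x
    let e : (Fin (k + 1) → K) ≃ₗ[K] (Fin k → K) × K := LinearEquiv.ofFinrankEq _ _ (by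
      rw [Module.finrank_fin_fun, Module.finrank_prod, Module.finrank_fin_fun, Module.finrank_self])
    rw [subSum_congr e, subSum_prod, prod_range_succ']
    have h1 : (fun i => mw (Nat.card K) (i + 1) * x ^ (i + 1) +
        (Nat.card K : ℂ) ^ i * (mw (Nat.card K) i * x ^ i)) =
        fun i => (1 - x) * (mw (Nat.card K) i * ((Nat.card K : ℂ) * x) ^ i) := by
      funext i
      rw [mw_succ, mul_pow, pow_succ]
      ring
    have h2 := ih ((Nat.card K : ℂ) * x)
    rw [subSum] at h2
    rw [h1, subSum, ← mul_finsum _ _, h2, mul_comm]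
    congr 1
    · exact Finset.prod_congr rfl fun i _ => by ring
    · ring

theorem subSum_mw {V : Type*} [AddCommGroup V] [Module K V] [FiniteDimensional K V] (x : ℂ) :
    subSum K V (fun i => mw (Nat.card K) i * x ^ i) =
      ∏ i ∈ range (Module.finrank K V), (1 - (Nat.card K : ℂ) ^ i * x) := by
  rw [subSum_congr (Module.finBasis K V).equivFun, subSum_mw_pi]

theorem subSum_mw_one {V : Type*} [AddCommGroup V] [Module K V] [FiniteDimensional K V] :
    subSum K V (mw (Nat.card K)) = if Module.finrank K V = 0 then 1 else 0 := by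
  have h := subSum_mw (K := K) (V := V) 1
  simp only [one_pow, mul_one] at h
  rw [h]
  split_ifs with h0
  · simp [h0]
  · exact Finset.prod_eq_zero (Finset.mem_range.2 (Nat.pos_of_ne_zero h0)) (by simp)

/-- The weighted sum over all subspaces. -/
theorem subSum_ww {V : Type*} [AddCommGroup V] [Module K V] [FiniteDimensional K V] :
    subSum K V (ww (Nat.card K)) = fw (Nat.card K) (Module.finrank K V) := by
  rcases Nat.eq_zero_or_eq_succ_pred (Module.finrank K V) with h0 | hk
  · haveI : Subsingleton V := Module.finrank_zero_iff.1 h0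
    haveI : Unique (Submodule K V) := uniqueOfSubsingleton ⊥
    rw [subSum, finsum_unique, h0]
    simp only [Module.finrank_zero_of_subsingleton]
    simp [ww, fw]
  · rw [hk]
    set k := (Module.finrank K V).pred
    let e : V ≃ₗ[K] (Fin k → K) × K := LinearEquiv.ofFinrankEq _ _ (by
      rw [hk, Module.finrank_prod, Module.finrank_fin_fun, Module.finrank_self])
    rw [subSum_congr e, subSum_prod]
    have h1 : (fun i => ww (Nat.card K) (i + 1) + (Nat.card K : ℂ) ^ i * ww (Nat.card K) i) =
        fun i => mw (Nat.card K) i * (Nat.card K : ℂ) ^ i := by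
      funext i
      rw [ww, ww, mw_succ]
      push_cast
      ring
    rw [h1, subSum_mw_pi]
    exact Finset.prod_congr rfl fun i _ => by rw [pow_succ]

theorem sum_hom_fw_pi {U : Type*} [AddCommGroup U] [Module K U] [FiniteDimensional K U]
    (ha : Module.finrank K U ≠ 0) (r : ℕ) :
      (∑ᶠ A : (Fin r → K) →ₗ[K] U,
        fw (Nat.card K) (Module.finrank K U + Module.finrank K (LinearMap.ker A))) =
        if r = 0 then fw (Nat.card K) (Module.finrank K U) else 0 := by
  set a := Module.finrank K U with ha'
  set Q : ℂ := (Nat.card K : ℂ) with hQ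
  induction r with
  | zero =>
    haveI : Unique ((Fin 0 → K) →ₗ[K] U) := uniqueOfSubsingleton 0
    rw [finsum_unique, if_pos rfl, Module.finrank_zero_of_subsingleton, Nat.add_zero]
  | succ r ih =>
    classical
    haveI : Finite U := Module.finite_of_finite K
    haveI : Finite ((Fin r → K) →ₗ[K] U) := Finite.of_injective _ DFunLike.coe_injective
    letI := Fintype.ofFinite ((Fin r → K) →ₗ[K] U)
    letI := Fintype.ofFinite U
    rw [if_neg (Nat.succ_ne_zero r)]
    have hV : Module.finrank K (Fin (r + 1) → K) = r + 1 := Module.finrank_fin_fun K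
    let e : ((Fin r → K) × K) ≃ₗ[K] (Fin (r + 1) → K) := LinearEquiv.ofFinrankEq ((Fin r → K) × K) (Fin (r + 1) → K) (by
      simp only [Module.finrank_prod, Module.finrank_fin_fun, Module.finrank_self])
    let Φ : ((Fin r → K) →ₗ[K] U) × U → ((Fin (r + 1) → K) →ₗ[K] U) := fun p =>
      (p.1.coprod (LinearMap.toSpanSingleton K U p.2)).comp e.symm.toLinearMap
    have hΦ : Function.Bijective Φ := by
      constructor
      · rintro ⟨A, c⟩ ⟨A', c'⟩ h
        refine Prod.ext (LinearMap.ext fun x => ?_) ?_
        · simpa [Φ] using LinearMap.congr_fun h (e (x, 0))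
        · simpa [Φ] using LinearMap.congr_fun h (e (0, 1))
      · intro B
        refine ⟨((B.comp e.toLinearMap).comp (LinearMap.inl K _ K),
          (B.comp e.toLinearMap) (0, 1)), LinearMap.ext fun v => ?_⟩
        obtain ⟨⟨x, t⟩, rfl⟩ := e.surjective v
        simp only [Φ, LinearMap.comp_apply, LinearEquiv.coe_coe, e.symm_apply_apply,
          LinearMap.coprod_apply, LinearMap.toSpanSingleton_apply, LinearMap.inl_apply,
          ← map_smul, ← map_add, Prod.smul_mk, smul_zero, smul_eq_mul, mul_one, Prod.mk_add_mk,
          add_zero, zero_add]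
    rw [← finsum_eq_of_bijective Φ hΦ (fun _ => rfl), finsum_eq_sum_of_fintype,
      Fintype.sum_prod_type]
    have hinner : ∀ A : (Fin r → K) →ₗ[K] U,
        ∑ c : U, fw Q (a + Module.finrank K (LinearMap.ker (Φ (A, c)))) =
          fw Q (a + Module.finrank K (LinearMap.ker A)) * (Q ^ a - Q ^ (a + r)) := by
      intro A
      set ρ := Module.finrank K (LinearMap.range A) with hρ
      set κ := Module.finrank K (LinearMap.ker A) with hκ
      have hrn : ρ + κ = r := by
        rw [hρ, hκ, LinearMap.finrank_range_add_finrank_ker, Module.finrank_fin_fun]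
      have hker : ∀ c : U, Module.finrank K (LinearMap.ker (Φ (A, c))) =
          if c ∈ LinearMap.range A then κ + 1 else κ := by
        intro c
        have hrange : LinearMap.range (Φ (A, c)) = LinearMap.range A ⊔ K ∙ c := by
          simp only [Φ]
          rw [LinearMap.range_comp_of_range_eq_top _ (LinearEquiv.range _),
            LinearMap.range_coprod, LinearMap.range_toSpanSingleton]
        have hrn' := LinearMap.finrank_range_add_finrank_ker (Φ (A, c))
        rw [hV, hrange] at hrn'
        split_ifs with hc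
        · rw [sup_eq_left.2 ((Submodule.span_singleton_le_iff_mem _ _).2 hc)] at hrn'
          omega
        · have h2 := Submodule.finrank_sup_add_finrank_inf_eq (LinearMap.range A) (K ∙ c)
          rw [disjoint_iff.1 ((Submodule.disjoint_span_singleton_of_notMem) hc), finrank_bot,
            finrank_span_singleton (fun h => hc (by rw [h]; exact zero_mem _))] at h2
          omega
      simp only [hker, apply_ite (fun i => fw Q (a + i))]
      rw [Finset.sum_ite, Finset.sum_const, Finset.sum_const, nsmul_eq_mul, nsmul_eq_mul,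
        ← Fintype.card_subtype, ← Nat.card_eq_fintype_card, Finset.filter_not,
        Finset.card_sdiff_of_subset (Finset.filter_subset _ _), Finset.card_univ,
        ← Nat.card_eq_fintype_card (α := U), ← Fintype.card_subtype,
        ← Nat.card_eq_fintype_card,
        show Nat.card {x // x ∈ LinearMap.range A} = Nat.card K ^ ρ from
          Module.natCard_eq_pow_finrank,
        Module.natCard_eq_pow_finrank (K := K) (V := U), ← ha',
        Nat.cast_sub (Nat.pow_le_pow_right Nat.card_pos (hρ ▸ (Submodule.finrank_le _))),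
        Nat.cast_pow, Nat.cast_pow, ← hQ, show a + (κ + 1) = a + κ + 1 by ring,
        fw_succ Q (by omega : a + κ ≠ 0), ← hrn]
      ring
    rw [Finset.sum_congr rfl fun A _ => hinner A, ← Finset.sum_mul]
    rcases Nat.eq_zero_or_pos r with rfl | hr
    · simp
    · rw [if_neg hr.ne', finsum_eq_sum_of_fintype] at ih
      rw [ih, zero_mul]

/-- The sum of the weight over the homomorphisms into a fixed space. -/
theorem sum_hom_fw {U V : Type*} [AddCommGroup U] [Module K U] [FiniteDimensional K U]
    [AddCommGroup V] [Module K V] [FiniteDimensional K V] (ha : Module.finrank K U ≠ 0) :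
    (∑ᶠ A : V →ₗ[K] U, fw (Nat.card K) (Module.finrank K U + Module.finrank K (LinearMap.ker A))) =
      if Module.finrank K V = 0 then fw (Nat.card K) (Module.finrank K U) else 0 := by
  rw [← sum_hom_fw_pi ha (Module.finrank K V)]
  let e := (Module.finBasis K V).equivFun
  refine finsum_eq_of_bijective (fun A => A.comp e.symm.toLinearMap)
    ((LinearEquiv.arrowCongr e (LinearEquiv.refl K U)).bijective) fun A => ?_
  rw [LinearMap.ker_comp, ← Submodule.map_equiv_eq_comap_symm]
  congr 2
  exact LinearEquiv.finrank_eq (e.submoduleMap _)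

end Cfsg.Agent.GLCusp
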