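/-
The Moebius function of the lattice of invariant subspaces of an endomorphism, and the cuspidal
class function built from it.
-/
import Cfsg.Agent.Lib.GLCusp.QIdent

set_option autoImplicit false
set_option linter.style.haveILetI false
set_option linter.unusedSectionVars false

namespace Cfsg.Agent.GLCusp

open Finset Polynomial

section nu

variable {F : Type*} [Field F] [Finite F] {V : Type*} [AddCommGroup V] [Module F V]
  [FiniteDimensional F V]

instance finite_submodule : Finite (Submodule F V) :=
  haveI : Finite V := Module.finite_of_finite F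
  Finite.of_injective _ SetLike.coe_injective

/-- Invariance of a subspace. -/
def Inv (g : Module.End F V) (W : Submodule F V) : Prop := ∀ x ∈ W, g x ∈ W

theorem inv_bot (g : Module.End F V) : Inv g ⊥ := by
  intro x hx
  rw [(Submodule.mem_bot F).1 hx, map_zero]
  exact zero_mem _

theorem inv_top (g : Module.End F V) : Inv g ⊤ := fun _ _ => trivial

theorem Inv.inf {g : Module.End F V} {A B : Submodule F V} (hA : Inv g A) (hB : Inv g B) :
    Inv g (A ⊓ B) := fun x hx => ⟨hA x hx.1, hB x hx.2⟩

theorem Inv.sup {g : Module.End F V} {A B : Submodule F V} (hA : Inv g A) (hB : Inv g B) :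
    Inv g (A ⊔ B) := by
  intro x hx
  obtain ⟨a, ha, b, hb, rfl⟩ := Submodule.mem_sup.1 hx
  rw [map_add]
  exact Submodule.add_mem_sup (hA a ha) (hB b hb)

/-- The invariant subspaces of a subspace. -/
noncomputable def below (g : Module.End F V) (W : Submodule F V) : Finset (Submodule F V) :=
  (Set.toFinite {U : Submodule F V | Inv g U ∧ U ≤ W}).toFinset

theorem mem_below {g : Module.End F V} {U W : Submodule F V} :
    U ∈ below g W ↔ Inv g U ∧ U ≤ W := by simp [below]

/-- The Moebius function of the invariant subspaces. -/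
noncomputable def nu (g : Module.End F V) : Submodule F V → ℂ :=
  wellFounded_lt.fix fun W rec =>
    open Classical in if W = ⊥ then 1 else
      -∑ U ∈ below g W, if h : U < W then rec U h else 0

theorem nu_bot (g : Module.End F V) : nu g ⊥ = 1 := by
  rw [nu, WellFounded.fix_eq]
  simp

theorem sum_nu {g : Module.End F V} {W : Submodule F V} (hg : Inv g W) (hW : W ≠ ⊥) :
    ∑ U ∈ below g W, nu g U = 0 := by
  classical
  have h : nu g W = -∑ U ∈ below g W, if U < W then nu g U else 0 := by
    conv_lhs => rw [nu, WellFounded.fix_eq]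
    rw [if_neg hW]
    congr 1
  rw [← Finset.sum_filter] at h
  have hWm : W ∈ below g W := mem_below.2 ⟨hg, le_rfl⟩
  rw [← Finset.add_sum_erase _ _ hWm]
  have he : (below g W).filter (fun U => U < W) = (below g W).erase W := by
    ext U
    simp only [mem_filter, mem_erase, mem_below, lt_iff_le_and_ne]
    tauto
  rw [h, he, neg_add_cancel]

/-- The Moebius function is determined by its defining sums on any class of subspaces closed
downwards. -/
theorem nu_eq_of {g : Module.End F V} (P : Submodule F V → Prop)
    (hP : ∀ U W, U ≤ W → P W → P U) (φ : Submodule F V → ℂ) (h0 : φ ⊥ = 1)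
    (hs : ∀ W, Inv g W → P W → W ≠ ⊥ → ∑ U ∈ below g W, φ U = 0) :
    ∀ W, Inv g W → P W → nu g W = φ W := by
  classical
  intro W
  induction W using WellFoundedLT.induction with
  | _ W ih =>
    intro hI hPW
    rcases eq_or_ne W ⊥ with rfl | hW
    · rw [nu_bot, h0]
    have hWm : W ∈ below g W := mem_below.2 ⟨hI, le_rfl⟩
    have h1 := sum_nu hI hW
    have h2 := hs W hI hPW hW
    rw [← Finset.add_sum_erase _ _ hWm] at h1 h2
    have h3 : ∑ U ∈ (below g W).erase W, nu g U = ∑ U ∈ (below g W).erase W, φ U := by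
      refine Finset.sum_congr rfl fun U hU => ?_
      obtain ⟨hne, hU⟩ := Finset.mem_erase.1 hU
      obtain ⟨hUI, hle⟩ := mem_below.1 hU
      exact ih U (lt_of_le_of_ne hle hne) hUI (hP U W hle hPW)
    rw [h3] at h1
    exact add_right_cancel (h1.trans h2.symm)

end nu

section phi

variable {F : Type*} [Field F] [Finite F] {V : Type*} [AddCommGroup V] [Module F V]
  [FiniteDimensional F V] {k : Type*} [Field k] (ι : F →+* k) (θ : k → ℂ)

/-- The sum of a function over the roots of a polynomial. -/
noncomputable def rootSum (f : F[X]) : ℂ := ((f.map ι).roots.map θ).sum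

theorem rootSum_mul {f h : F[X]} (hf : f.Monic) (hh : h.Monic) :
    rootSum ι θ (f * h) = rootSum ι θ f + rootSum ι θ h := by
  rw [rootSum, Polynomial.map_mul, roots_mul ((hf.map ι).mul (hh.map ι)).ne_zero, Multiset.map_add,
    Multiset.sum_add]
  rfl

theorem rootSum_one : rootSum ι θ (1 : F[X]) = 0 := by simp [rootSum]

open Classical in
/-- The lifted trace on an invariant subspace. -/
noncomputable def lval (g : Module.End F V) (W : Submodule F V) : ℂ :=
  if h : Inv g W then rootSum ι θ (g.restrict h).charpoly else 0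

theorem lval_eq {g : Module.End F V} {W : Submodule F V} (h : Inv g W) :
    lval ι θ g W = rootSum ι θ (g.restrict h).charpoly := dif_pos h

theorem lval_congr {V' : Type*} [AddCommGroup V'] [Module F V'] [FiniteDimensional F V']
    {g : Module.End F V} {W : Submodule F V} (h : Inv g W) (T : Module.End F V') (e : V' ≃ₗ[F] W)
    (he : ∀ x, (e (T x) : V) = g (e x)) : lval ι θ g W = rootSum ι θ T.charpoly := by
  rw [lval_eq ι θ h, ← LinearEquiv.charpoly_conj e T]
  congr 2
  refine LinearMap.ext fun x => Subtype.ext ?_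
  rw [LinearEquiv.conj_apply_apply, he, LinearEquiv.apply_symm_apply]
  rfl

theorem lval_bot (g : Module.End F V) : lval ι θ g ⊥ = 0 := by
  rw [lval_eq ι θ (inv_bot g)]
  have h : ((g.restrict (inv_bot g)).charpoly).natDegree = 0 := by
    rw [LinearMap.charpoly_natDegree, finrank_bot]
  rw [(LinearMap.charpoly_monic _).natDegree_eq_zero.1 h, rootSum_one]

theorem lval_sup {g : Module.End F V} {A B : Submodule F V} (hA : Inv g A) (hB : Inv g B)
    (hd : Disjoint A B) : lval ι θ g (A ⊔ B) = lval ι θ g A + lval ι θ g B := by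
  let φ : (A × B) →ₗ[F] (A ⊔ B : Submodule F V) :=
    (Submodule.inclusion le_sup_left).coprod (Submodule.inclusion le_sup_right)
  have hφ : Function.Bijective φ := by
    constructor
    · rintro ⟨a, b⟩ ⟨a', b'⟩ h
      have h' : (a : V) + b = (a' : V) + b' := congrArg Subtype.val h
      have h2 : (a : V) - a' = (b' : V) - b := by
        rw [sub_eq_sub_iff_add_eq_add, h', add_comm]
      have h3 : (a : V) - a' = 0 :=
        Submodule.disjoint_def.1 hd _ (A.sub_mem a.2 a'.2) (h2 ▸ B.sub_mem b'.2 b.2)
      have h4 : (b' : V) - b = 0 := h2 ▸ h3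
      exact Prod.ext (Subtype.ext (sub_eq_zero.1 h3)) (Subtype.ext (sub_eq_zero.1 h4).symm)
    · rintro ⟨w, hw⟩
      obtain ⟨a, ha, b, hb, rfl⟩ := Submodule.mem_sup.1 hw
      exact ⟨(⟨a, ha⟩, ⟨b, hb⟩), rfl⟩
  rw [lval_congr ι θ (hA.sup hB) ((g.restrict hA).prodMap (g.restrict hB))
    (LinearEquiv.ofBijective φ hφ) (fun x => ?_), LinearMap.charpoly_prodMap,
    rootSum_mul ι θ (LinearMap.charpoly_monic _) (LinearMap.charpoly_monic _),
    ← lval_eq ι θ hA, ← lval_eq ι θ hB]
  simp [φ]
  rfl

/-- The cuspidal class function, up to sign. -/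
noncomputable def phi (g : Module.End F V) : ℂ := ∑ W ∈ below g ⊤, nu g W * lval ι θ g W

/-- A decomposition into two complementary pieces kills the class function. -/
theorem phi_eq_zero_of_split {g : Module.End F V} {A B : Submodule F V} (hA : Inv g A)
    (hB : Inv g B) (hAB : IsCompl A B) (hA0 : A ≠ ⊥) (hB0 : B ≠ ⊥)
    (hsplit : ∀ W, Inv g W → W ≤ W ⊓ A ⊔ W ⊓ B) : phi ι θ g = 0 := by
  classical
  have hd : ∀ {a b : Submodule F V}, a ≤ A → b ≤ B → (a ⊔ b) ⊓ A = a ∧ (a ⊔ b) ⊓ B = b := by
    intro a b ha hb
    constructor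
    · rw [sup_inf_assoc_of_le b ha,
        (disjoint_iff.1 (hAB.disjoint.symm.mono_left hb) : b ⊓ A = ⊥), sup_bot_eq]
    · rw [sup_comm, sup_inf_assoc_of_le a hb,
        (disjoint_iff.1 (hAB.disjoint.mono_left ha) : a ⊓ B = ⊥), sup_bot_eq]
  have key : ∀ (φ : Submodule F V → Submodule F V → ℂ) (W : Submodule F V), Inv g W →
      ∑ U ∈ below g W, φ (U ⊓ A) (U ⊓ B) =
        ∑ a ∈ below g (W ⊓ A), ∑ b ∈ below g (W ⊓ B), φ a b := by
    intro φ W hW
    rw [← Finset.sum_product']
    refine Finset.sum_nbij' (fun U => (U ⊓ A, U ⊓ B)) (fun p => p.1 ⊔ p.2) ?_ ?_ ?_ ?_ ?_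
    · intro U hU
      obtain ⟨hI, hle⟩ := mem_below.1 hU
      exact Finset.mem_product.2 ⟨mem_below.2 ⟨hI.inf hA, inf_le_inf_right A hle⟩,
        mem_below.2 ⟨hI.inf hB, inf_le_inf_right B hle⟩⟩
    · intro p hp
      obtain ⟨h1, h2⟩ := Finset.mem_product.1 hp
      exact mem_below.2 ⟨(mem_below.1 h1).1.sup (mem_below.1 h2).1,
        sup_le ((mem_below.1 h1).2.trans inf_le_left) ((mem_below.1 h2).2.trans inf_le_left)⟩
    · intro U hU
      exact le_antisymm (sup_le inf_le_left inf_le_left) (hsplit U (mem_below.1 hU).1)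
    · intro p hp
      obtain ⟨h1, h2⟩ := Finset.mem_product.1 hp
      obtain ⟨e1, e2⟩ := hd ((mem_below.1 h1).2.trans inf_le_right)
        ((mem_below.1 h2).2.trans inf_le_right)
      exact Prod.ext e1 e2
    · intro U _
      rfl
  have hnu : ∀ W, Inv g W → nu g W = nu g (W ⊓ A) * nu g (W ⊓ B) := by
    intro W hW
    refine nu_eq_of (fun _ => True) (fun _ _ _ _ => trivial)
      (fun U => nu g (U ⊓ A) * nu g (U ⊓ B)) (by simp [nu_bot]) (fun U hU _ hU0 => ?_) W hW trivial
    rw [key (fun a b => nu g a * nu g b) U hU, ← Finset.sum_mul_sum]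
    by_cases h : U ⊓ A = ⊥
    · have hb : U ⊓ B ≠ ⊥ := fun h' => hU0 (le_bot_iff.1 ((hsplit U hU).trans (by simp [h, h'])))
      rw [sum_nu (hU.inf hB) hb, mul_zero]
    · rw [sum_nu (hU.inf hA) h, zero_mul]
  have hterm : ∀ W ∈ below g ⊤, nu g W * lval ι θ g W =
      (fun a b => nu g a * nu g b * (lval ι θ g a + lval ι θ g b)) (W ⊓ A) (W ⊓ B) := by
    intro W hW
    have hI := (mem_below.1 hW).1
    have hW' : W = W ⊓ A ⊔ W ⊓ B :=
      le_antisymm (hsplit W hI) (sup_le inf_le_left inf_le_left)
    show _ = _ * _ * _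
    rw [← lval_sup ι θ (hI.inf hA) (hI.inf hB) (hAB.disjoint.mono inf_le_right inf_le_right),
      ← hW', ← hnu W hI]
  rw [phi, Finset.sum_congr rfl hterm,
    key (fun a b => nu g a * nu g b * (lval ι θ g a + lval ι θ g b)) ⊤ (inv_top g)]
  simp only [top_inf_eq, mul_add, Finset.sum_add_distrib]
  have h1 : ∀ a, ∑ b ∈ below g B, nu g a * nu g b * lval ι θ g a =
      nu g a * lval ι θ g a * ∑ b ∈ below g B, nu g b := fun a => by
    rw [Finset.mul_sum]
    exact Finset.sum_congr rfl fun b _ => by ring
  have h2 : ∀ a, ∑ b ∈ below g B, nu g a * nu g b * lval ι θ g b =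
      nu g a * ∑ b ∈ below g B, nu g b * lval ι θ g b := fun a => by
    rw [Finset.mul_sum]
    exact Finset.sum_congr rfl fun b _ => by ring
  simp only [h1, h2, ← Finset.sum_mul]
  rw [sum_nu hA hA0, sum_nu hB hB0]
  simp

/-- Only the endomorphisms whose minimal polynomial is a power of an irreducible polynomial
contribute. -/
theorem isNilpotent_of_phi_ne_zero {g : Module.End F V} {f : F[X]}
    (hne : phi ι θ g ≠ 0) (hker : LinearMap.ker (aeval g f) ≠ ⊥) : IsNilpotent (aeval g f) := by
  classical
  by_contra hnil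
  apply hne
  set h := aeval g f with hh
  have hev := (LinearMap.eventually_isCompl_ker_pow_range_pow h)
  obtain ⟨r, hr, hr1⟩ := (hev.and (Filter.eventually_ge_atTop 1)).exists
  have hcomm : ∀ (e : Module.End F V) (i : ℕ) (x : V), e = h ^ i → e (g x) = g (e x) := by
    rintro e i x rfl
    have : Commute (h ^ i) g := by
      refine Commute.pow_left ?_ i
      rw [hh]
      simpa using ((Commute.all f X).map (aeval (R := F) g))
    exact LinearMap.congr_fun this.eq x
  have hinvh : ∀ W, Inv g W → ∀ i, ∀ x ∈ W, (h ^ i) x ∈ W := by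
    intro W hW
    have h1 : ∀ x ∈ W, h x ∈ W := fun x hx =>
      Polynomial.aeval_apply_smul_mem_of_le_comap hx f g (fun y hy => hW y hy)
    intro i
    induction i with
    | zero => exact fun x hx => by simpa using hx
    | succ i ih =>
      intro x hx
      rw [pow_succ', Module.End.mul_apply]
      exact h1 _ (ih x hx)
  refine phi_eq_zero_of_split ι θ (A := LinearMap.ker (h ^ r)) (B := LinearMap.range (h ^ r))
    (fun x hx => ?_) (fun x hx => ?_) hr (fun h0 => hker ?_) (fun h0 => hnil ⟨r, ?_⟩) ?_
  · rw [LinearMap.mem_ker, hcomm _ r x rfl, LinearMap.mem_ker.1 hx, map_zero]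
  · obtain ⟨y, rfl⟩ := hx
    exact ⟨g y, hcomm _ r y rfl⟩
  · refine le_bot_iff.1 (h0 ▸ fun x hx => ?_)
    obtain ⟨j, rfl⟩ : ∃ j, r = j + 1 := ⟨r - 1, by omega⟩
    rw [LinearMap.mem_ker, pow_succ, Module.End.mul_apply, LinearMap.mem_ker.1 hx, map_zero]
  · exact LinearMap.range_eq_bot.1 h0
  · intro W hW x hx
    -- apply the decomposition inside the subspace
    let hW' : Module.End F W := (h ^ r).restrict (hinvh W hW r)
    have hdis : LinearMap.ker hW' ⊓ LinearMap.range hW' = ⊥ := by
      rw [eq_bot_iff]
      rintro ⟨y, hy⟩ ⟨h1, ⟨z, hz⟩⟩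
      refine (Submodule.mem_bot F).2 (Subtype.ext ?_)
      have h2 : (h ^ r) y = 0 := congrArg Subtype.val h1
      have h3 : (h ^ r) (z : V) = y := congrArg Subtype.val hz
      exact Submodule.disjoint_def.1 hr.disjoint y h2 ⟨_, h3⟩
    have htop : LinearMap.ker hW' ⊔ LinearMap.range hW' = ⊤ := by
      refine Submodule.eq_top_of_finrank_eq ?_
      have h2 := Submodule.finrank_sup_add_finrank_inf_eq (LinearMap.ker hW') (LinearMap.range hW')
      rw [hdis, finrank_bot] at h2
      have h3 := LinearMap.finrank_range_add_finrank_ker hW'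
      omega
    obtain ⟨a, ha, b, ⟨c, rfl⟩, hab⟩ := Submodule.mem_sup.1 (htop.ge (Submodule.mem_top (x := ⟨x, hx⟩)))
    have hab' : (a : V) + (hW' c : W) = x := congrArg Subtype.val hab
    rw [← hab']
    exact Submodule.add_mem_sup ⟨a.2, congrArg Subtype.val ha⟩ ⟨(hW' c).2, ⟨c, rfl⟩⟩

end phi

section primary

variable {F : Type*} [Field F] [Finite F] {K : Type*} [Field K] [Finite K] [Algebra F K]
  {V : Type*} [AddCommGroup V] [Module F V] [FiniteDimensional F V] [Module K V]
  [IsScalarTower F K V] {k : Type*} [Field k] (ι : F →+* k) (θ : k → ℂ)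
  {α : K} {g : Module.End F V} {N : Module.End K V}

/-- An iterate of the primary endomorphism is the semisimple part. -/
theorem pow_eq_smul (hN : IsNilpotent N) (hg : ∀ v, g v = α • v + N v) :
    ∃ e : ℕ, ∀ v, (g ^ e) v = α • v := by
  classical
  rcases subsingleton_or_nontrivial V with hV | hV
  · exact ⟨0, fun v => Subsingleton.elim _ _⟩
  obtain ⟨r, hr⟩ := hN
  haveI : Fintype K := Fintype.ofFinite K
  obtain ⟨p, hp⟩ := CharP.exists K
  obtain ⟨e, hpr, hcard⟩ := FiniteField.card K p
  haveI : Fact p.Prime := ⟨hpr⟩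
  haveI : FiniteDimensional K V := Module.Finite.right F K V
  haveI : CharP (Module.End K V) p := charP_of_injective_algebraMap
    (FaithfulSMul.algebraMap_injective K (Module.End K V)) p
  refine ⟨p ^ ((e : ℕ) * r), fun v => ?_⟩
  have hpow : ∀ (i : ℕ) (v : V), (g ^ i) v = ((algebraMap K (Module.End K V) α + N) ^ i) v := by
    intro i
    induction i with
    | zero => exact fun v => rfl
    | succ i ih =>
      intro v
      rw [pow_succ', pow_succ', Module.End.mul_apply, Module.End.mul_apply, hg, ih]
      simp [Module.algebraMap_end_apply]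
  have hα : α ^ p ^ ((e : ℕ) * r) = α := by
    rw [pow_mul, ← hcard, FiniteField.pow_card_pow]
  have hNr : N ^ p ^ ((e : ℕ) * r) = 0 := by
    refine pow_eq_zero_of_le ?_ hr
    calc r ≤ (e : ℕ) * r := Nat.le_mul_of_pos_left r e.2
      _ ≤ p ^ ((e : ℕ) * r) := (Nat.lt_pow_self hpr.one_lt).le
  rw [hpow, add_pow_char_pow_of_commute _ _ (Algebra.commute_algebraMap_left _ _), ← map_pow, hα,
    hNr, add_zero, Module.algebraMap_end_apply]

theorem pow_apply_mem {W : Submodule F V} (hW : Inv g W) (i : ℕ) {x : V} (hx : x ∈ W) :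
    (g ^ i) x ∈ W := by
  induction i with
  | zero => exact hx
  | succ i ih =>
    rw [pow_succ', Module.End.mul_apply]
    exact hW _ ih

/-- An invariant subspace is invariant under the scalars. -/
theorem smul_mem_of_inv (hgen : ∀ c : K, ∃ f : F[X], aeval α f = c) (hN : IsNilpotent N)
    (hg : ∀ v, g v = α • v + N v) {W : Submodule F V} (hW : Inv g W) (c : K) {x : V}
    (hx : x ∈ W) : c • x ∈ W := by
  obtain ⟨e, he⟩ := pow_eq_smul hN hg
  have hα : ∀ y ∈ W, α • y ∈ W := fun y hy => he y ▸ pow_apply_mem hW e hy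
  obtain ⟨f, rfl⟩ := hgen c
  induction f using Polynomial.induction_on' generalizing x with
  | add a b ha hb => rw [map_add, add_smul]; exact W.add_mem (ha hx) (hb hx)
  | monomial i a =>
    rw [aeval_monomial, mul_smul, algebraMap_smul]
    refine W.smul_mem a ?_
    induction i generalizing x with
    | zero => simpa using hx
    | succ i ih =>
      rw [pow_succ', mul_smul]
      exact hα _ (ih hx)

/-- The subspace over the larger field. -/
def liftSub (hgen : ∀ c : K, ∃ f : F[X], aeval α f = c) (hN : IsNilpotent N)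
    (hg : ∀ v, g v = α • v + N v) {W : Submodule F V} (hW : Inv g W) : Submodule K V where
  carrier := W
  add_mem' := W.add_mem
  zero_mem' := W.zero_mem
  smul_mem' := fun c _ hx => smul_mem_of_inv hgen hN hg hW c hx

theorem inv_restrictScalars (hg : ∀ v, g v = α • v + N v) {U : Submodule K V}
    (hU : U ≤ LinearMap.ker N) : Inv g (U.restrictScalars F) := by
  intro x hx
  show g x ∈ U
  rw [hg, LinearMap.mem_ker.1 (hU hx), add_zero]
  exact U.smul_mem α hx

theorem inv_ker (hg : ∀ v, g v = α • v + N v) : Inv g ((LinearMap.ker N).restrictScalars F) :=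
  inv_restrictScalars hg le_rfl

/-- The invariant subspaces killed by the nilpotent part are the subspaces over the larger
field. -/
theorem sum_below_ker (hgen : ∀ c : K, ∃ f : F[X], aeval α f = c) (hN : IsNilpotent N)
    (hg : ∀ v, g v = α • v + N v) (U : Submodule K V) (hU : U ≤ LinearMap.ker N)
    (φ : Submodule F V → ℂ) :
    ∑ W ∈ below g (U.restrictScalars F), φ W =
      ∑ᶠ X : Submodule K U, φ ((X.map U.subtype).restrictScalars F) := by
  classical
  haveI : FiniteDimensional K V := Module.Finite.right F K V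
  letI := Fintype.ofFinite (Submodule K U)
  rw [finsum_eq_sum_of_fintype]
  refine (Finset.sum_bij (fun X _ => (X.map U.subtype).restrictScalars F) ?_ ?_ ?_
    (fun _ _ => rfl)).symm
  · intro X _
    exact mem_below.2 ⟨inv_restrictScalars hg ((Submodule.map_subtype_le U X).trans hU),
      Submodule.map_subtype_le U X⟩
  · intro X _ Y _ h
    exact Submodule.map_injective_of_injective U.injective_subtype
      (Submodule.restrictScalars_injective F K V h)
  · intro W hW
    obtain ⟨hI, hle⟩ := mem_below.1 hW
    refine ⟨(liftSub hgen hN hg hI).comap U.subtype, Finset.mem_univ _, ?_⟩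
    apply SetLike.coe_injective
    rw [Submodule.coe_restrictScalars, Submodule.map_comap_subtype]
    exact Set.inter_eq_right.2 hle

theorem nu_zero_of_not_le (hgen : ∀ c : K, ∃ f : F[X], aeval α f = c) (hN : IsNilpotent N)
    (hg : ∀ v, g v = α • v + N v) {W : Submodule F V} (hW : Inv g W)
    (hle : ¬ W ≤ (LinearMap.ker N).restrictScalars F) : nu g W = 0 := by
  classical
  set T := (LinearMap.ker N).restrictScalars F with hT
  have h := nu_eq_of (g := g) (fun _ => True) (fun _ _ _ _ => trivial)
    (fun U => if U ≤ T then nu g U else 0) (by simp [nu_bot]) (fun U hU _ hU0 => ?_) W hW trivial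
  · rw [h, if_neg hle]
  rw [← Finset.sum_filter]
  have he : (below g U).filter (· ≤ T) = below g (U ⊓ T) := by
    ext X
    simp only [mem_filter, mem_below, le_inf_iff]
    tauto
  rw [he, sum_nu (hU.inf (inv_ker hg))]
  intro h0
  -- the nilpotent part has a kernel on `U`
  obtain ⟨x, hx, hx0⟩ := Submodule.exists_mem_ne_zero_of_ne_bot hU0
  have hNU : ∀ y ∈ U, N y ∈ U := by
    intro y hy
    have e : N y = g y - α • y := by rw [hg, add_sub_cancel_left]
    rw [e]
    exact U.sub_mem (hU y hy) (smul_mem_of_inv hgen hN hg hU α hy)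
  obtain ⟨r, hr⟩ := hN
  have hx' : ∀ i, (N ^ i) x ∈ U := by
    intro i
    induction i with
    | zero => simpa using hx
    | succ i ih => rw [pow_succ', Module.End.mul_apply]; exact hNU _ ih
  have hex : ∃ i, (N ^ i) x = 0 := ⟨r, by rw [hr, LinearMap.zero_apply]⟩
  rcases Nat.eq_zero_or_eq_succ_pred (Nat.find hex) with h1 | h1
  · exact hx0 (by simpa [h1] using Nat.find_spec hex)
  · refine Nat.find_min hex (show (Nat.find hex).pred < Nat.find hex by omega)
      ((Submodule.mem_bot F).1 (h0 ▸ ⟨hx' _, ?_⟩))
    show N ((N ^ _) x) = 0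
    rw [← Module.End.mul_apply, ← pow_succ', show (Nat.find hex).pred + 1 = Nat.find hex by omega]
    exact Nat.find_spec hex

theorem nu_restrictScalars (hgen : ∀ c : K, ∃ f : F[X], aeval α f = c) (hN : IsNilpotent N)
    (hg : ∀ v, g v = α • v + N v) {U : Submodule K V} (hU : U ≤ LinearMap.ker N) :
    nu g (U.restrictScalars F) = mw (Nat.card K) (Module.finrank K U) := by
  classical
  haveI : FiniteDimensional K V := Module.Finite.right F K V
  let φ : Submodule F V → ℂ := fun W =>
    if h : Inv g W then mw (Nat.card K) (Module.finrank K (liftSub hgen hN hg h)) else 0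
  have hφ : ∀ (X : Submodule K V) (hX : X ≤ LinearMap.ker N),
      φ (X.restrictScalars F) = mw (Nat.card K) (Module.finrank K X) := by
    intro X hX
    simp only [φ, dif_pos (inv_restrictScalars hg hX)]
    rfl
  have h := nu_eq_of (g := g) (fun W => W ≤ (LinearMap.ker N).restrictScalars F)
    (fun _ _ h1 h2 => h1.trans h2) φ ?_ (fun W hW hle hW0 => ?_) (U.restrictScalars F)
    (inv_restrictScalars hg hU) hU
  · rw [h, hφ U hU]
  · have h0 : φ ((⊥ : Submodule K V).restrictScalars F) = _ := hφ ⊥ bot_le
    rw [Submodule.restrictScalars_bot, finrank_bot] at h0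
    rw [h0]
    simp [mw]
  · set X := liftSub hgen hN hg hW with hX
    have hXW : W = X.restrictScalars F := rfl
    have hXN : X ≤ LinearMap.ker N := hle
    rw [hXW, sum_below_ker hgen hN hg X hXN,
      finsum_congr fun Y => hφ (Y.map X.subtype) ((Submodule.map_subtype_le X Y).trans hXN)]
    have h1 : ∀ Y : Submodule K X, Module.finrank K (Y.map X.subtype) = Module.finrank K Y :=
      fun Y => Submodule.finrank_map_subtype_eq X Y
    simp only [h1]
    rw [← subSum, subSum_mw_one, if_neg]
    intro h2
    exact hW0 (by rw [hXW, Submodule.finrank_eq_zero.1 h2, Submodule.restrictScalars_bot])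

theorem lval_restrictScalars (hgen : ∀ c : K, ∃ f : F[X], aeval α f = c)
    (hg : ∀ v, g v = α • v + N v) : ∀ (j : ℕ) (U : Submodule K V), U ≤ LinearMap.ker N →
    Module.finrank K U = j →
    lval ι θ g (U.restrictScalars F) = j * rootSum ι θ (minpoly F α) := by
  classical
  haveI : Module.Finite F K := Module.Finite.of_finite
  haveI : FiniteDimensional K V := Module.Finite.right F K V
  intro j
  induction j with
  | zero =>
    intro U _ h
    rw [Submodule.finrank_eq_zero.1 h, Submodule.restrictScalars_bot, lval_bot]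
    simp
  | succ j ih =>
    intro U hU h
    obtain ⟨v, hv, hv0⟩ := Submodule.exists_mem_ne_zero_of_ne_bot
      (show U ≠ ⊥ from fun e => by rw [e, finrank_bot] at h; omega)
    obtain ⟨C, hC⟩ := exists_isCompl ((K ∙ v).comap U.subtype)
    set C' := C.map U.subtype
    have hl : K ∙ v ≤ U := (Submodule.span_singleton_le_iff_mem _ _).2 hv
    have hsup : (K ∙ v) ⊔ C' = U := by
      have := congrArg (Submodule.map U.subtype) hC.sup_eq_top
      rwa [Submodule.map_sup, Submodule.map_comap_subtype, inf_eq_right.2 hl,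
        Submodule.map_subtype_top] at this
    have hdis : Disjoint (K ∙ v) C' := by
      have := congrArg (Submodule.map U.subtype) hC.inf_eq_bot
      rw [Submodule.map_inf _ U.injective_subtype, Submodule.map_comap_subtype, inf_eq_right.2 hl,
        Submodule.map_bot] at this
      exact disjoint_iff.2 this
    have hC'U : C' ≤ U := Submodule.map_subtype_le U C
    have hrk : Module.finrank K C' = j := by
      have h2 := Submodule.finrank_sup_add_finrank_inf_eq (K ∙ v) C'
      rw [hsup, disjoint_iff.1 hdis, finrank_bot, finrank_span_singleton hv0, h] at h2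
      omega
    have hI := inv_restrictScalars (F := F) hg (hl.trans hU)
    rw [← hsup, Submodule.restrictScalars_sup, lval_sup ι θ hI
      (inv_restrictScalars hg (hC'U.trans hU)) ?_, ih C' (hC'U.trans hU) hrk]
    swap
    · rw [disjoint_iff, ← Submodule.restrictScalars_inf, disjoint_iff.1 hdis,
        Submodule.restrictScalars_bot]
    rw [Nat.cast_succ, add_one_mul, add_comm]
    congr 1
    rw [lval_eq ι θ hI]
    congr 1
    set T := g.restrict hI
    have hmon : T.charpoly.Monic := LinearMap.charpoly_monic T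
    have hint : IsIntegral F α := IsIntegral.of_finite F α
    refine Polynomial.eq_of_monic_of_dvd_of_natDegree_le (minpoly.monic hint) hmon ?_ ?_
    · refine minpoly.dvd F α ?_
      have hmem : v ∈ (K ∙ v).restrictScalars F := Submodule.mem_span_singleton_self v
      have hev : ∀ (f : F[X]), ((aeval T f) ⟨v, hmem⟩ : V) = (aeval α f) • v := by
        have hp : ∀ i : ℕ, ((T ^ i) ⟨v, hmem⟩ : V) = α ^ i • v := by
          intro i
          induction i with
          | zero => simp
          | succ i ih =>
            rw [pow_succ', Module.End.mul_apply, pow_succ', mul_smul, ← ih]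
            show g ((T ^ i) ⟨v, hmem⟩ : V) = α • ((T ^ i) ⟨v, hmem⟩ : V)
            rw [hg, ih, map_smul, LinearMap.mem_ker.1 (hU hv), smul_zero, add_zero]
        intro f
        induction f using Polynomial.induction_on' with
        | add a b ha hb => simp [map_add, add_smul, ha, hb]
        | monomial i a =>
          rw [aeval_monomial, aeval_monomial, Module.End.mul_apply, Module.algebraMap_end_apply,
            Submodule.coe_smul, hp, mul_smul, algebraMap_smul]
      have h0 := hev T.charpoly
      rw [LinearMap.aeval_self_charpoly, LinearMap.zero_apply, Submodule.coe_zero] at h0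
      exact (smul_eq_zero.1 h0.symm).resolve_right hv0
    · rw [LinearMap.charpoly_natDegree]
      have hfin : Module.finrank F ((K ∙ v).restrictScalars F) = Module.finrank F K := by
        rw [show Module.finrank F ((K ∙ v).restrictScalars F) = Module.finrank F (K ∙ v) from rfl,
          ← Module.finrank_mul_finrank F K, finrank_span_singleton hv0, mul_one]
      rw [hfin]
      have htop : Algebra.adjoin F {α} = ⊤ := by
        rw [Algebra.adjoin_singleton_eq_range_aeval]
        exact eq_top_iff.2 fun c _ => hgen c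
      exact le_of_eq (PowerBasis.ofAdjoinEqTop hint htop).finrank

/-- The value on a primary endomorphism. -/
theorem phi_primary (hgen : ∀ c : K, ∃ f : F[X], aeval α f = c) (hN : IsNilpotent N)
    (hg : ∀ v, g v = α • v + N v) :
    phi ι θ g = -(rootSum ι θ (minpoly F α) *
      fw (Nat.card K) (Module.finrank K (LinearMap.ker N))) := by
  classical
  haveI : FiniteDimensional K V := Module.Finite.right F K V
  set T := (LinearMap.ker N).restrictScalars F with hT
  have h1 : phi ι θ g = ∑ W ∈ below g T, nu g W * lval ι θ g W := by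
    refine (Finset.sum_subset (fun W hW => mem_below.2 ⟨(mem_below.1 hW).1, le_top⟩)
      fun W hW hW' => ?_).symm
    rw [nu_zero_of_not_le hgen hN hg (mem_below.1 hW).1
      (fun h => hW' (mem_below.2 ⟨(mem_below.1 hW).1, h⟩)), zero_mul]
  rw [h1, sum_below_ker hgen hN hg (LinearMap.ker N) le_rfl, ← subSum_ww, subSum,
    mul_finsum, ← finsum_neg_distrib]
  refine finsum_congr fun X => ?_
  have hX := Submodule.map_subtype_le (LinearMap.ker N) X
  rw [nu_restrictScalars hgen hN hg hX, lval_restrictScalars ι θ hgen hg _ _ hX rfl,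
    Submodule.finrank_map_subtype_eq]
  rw [ww]
  ring

end primary

end Cfsg.Agent.GLCusp
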