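/-
The sum of the squares of the weight over the nilpotent endomorphisms, and the automorphisms with
given semisimple eigenvalues.
-/
import Cfsg.Agent.Lib.GLCusp.Lattice

set_option autoImplicit false
set_option linter.style.haveILetI false
set_option linter.unusedSectionVars false

namespace Cfsg.Agent.GLCusp

open Finset Polynomial

section nil

variable {K : Type*} [Field K] [Finite K]

theorem finrank_ker_ne_zero {U : Type*} [AddCommGroup U] [Module K U] [FiniteDimensional K U]
    {N : Module.End K U} (hN : IsNilpotent N) (hU : Module.finrank K U ≠ 0) :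
    Module.finrank K (LinearMap.ker N) ≠ 0 := by
  intro h
  have hinj : Function.Injective N := LinearMap.ker_eq_bot.1 (Submodule.finrank_eq_zero.1 h)
  obtain ⟨r, hr⟩ := hN
  have hpow : ∀ i, Function.Injective (N ^ i : Module.End K U) := by
    intro i
    induction i with
    | zero => exact fun _ _ h => h
    | succ i ih => rw [pow_succ', Module.End.mul_eq_comp]; exact hinj.comp ih
  haveI : Nontrivial U := Module.nontrivial_of_finrank_pos (Nat.pos_of_ne_zero hU)
  obtain ⟨x, hx⟩ := exists_ne (0 : U)
  exact hx (hpow r (by simp [hr]))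

/-- The sum over the homomorphisms between two spaces of the weight at the kernel of their
restriction to a non-zero subspace. -/
theorem sum_hom_restrict {U W : Type*} [AddCommGroup U] [Module K U] [FiniteDimensional K U]
    [AddCommGroup W] [Module K W] [FiniteDimensional K W] (hW : Module.finrank K W ≠ 0)
    (L : Submodule K U) (hL : Module.finrank K L ≠ 0) [Fintype (U →ₗ[K] W)] :
    ∑ C : U →ₗ[K] W, fw (Nat.card K)
      (Module.finrank K W + Module.finrank K (LinearMap.ker (C.comp L.subtype))) = 0 := by
  classical
  haveI : Finite L := Module.finite_of_finite K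
  haveI : Finite W := Module.finite_of_finite K
  haveI : Finite (L →ₗ[K] W) := Finite.of_injective _ DFunLike.coe_injective
  letI := Fintype.ofFinite (L →ₗ[K] W)
  set R : (U →ₗ[K] W) → (L →ₗ[K] W) := fun C => C.comp L.subtype with hR
  have hsurj : ∀ A : L →ₗ[K] W, ∃ C, R C = A := fun A => by
    obtain ⟨π, hπ⟩ := L.subtype.exists_leftInverse_of_injective L.ker_subtype
    exact ⟨A.comp π, by rw [hR]; show (A.comp π).comp L.subtype = A; rw [LinearMap.comp_assoc, hπ, LinearMap.comp_id]⟩
  have hfib : ∀ A : L →ₗ[K] W, (univ.filter fun C => R C = A).card =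
      (univ.filter fun C => R C = 0).card := by
    intro A
    obtain ⟨C0, hC0⟩ := hsurj A
    refine Finset.card_nbij' (fun C => C - C0) (fun C => C + C0) ?_ ?_ ?_ ?_
    · intro C hC
      simp only [coe_filter, mem_univ, true_and, Set.mem_setOf_eq] at hC ⊢
      show (C - C0).comp L.subtype = 0
      rw [LinearMap.sub_comp, sub_eq_zero]
      exact hC.trans hC0.symm
    · intro C hC
      simp only [coe_filter, mem_univ, true_and, Set.mem_setOf_eq] at hC ⊢
      show (C + C0).comp L.subtype = A
      rw [LinearMap.add_comp, show C.comp L.subtype = 0 from hC, zero_add]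
      exact hC0
    · intro C _; simp
    · intro C _; simp
  rw [← Finset.sum_fiberwise (univ : Finset (U →ₗ[K] W)) R]
  have h1 : ∀ A : L →ₗ[K] W, ∑ C ∈ univ.filter (fun C => R C = A),
      fw (Nat.card K) (Module.finrank K W + Module.finrank K (LinearMap.ker (C.comp L.subtype))) =
      ((univ.filter fun C => R C = 0).card : ℂ) *
        fw (Nat.card K) (Module.finrank K W + Module.finrank K (LinearMap.ker A)) := by
    intro A
    rw [Finset.sum_congr rfl (fun C hC => by
      rw [show C.comp L.subtype = A from (mem_filter.1 hC).2]), Finset.sum_const, hfib A,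
      nsmul_eq_mul]
  rw [Finset.sum_congr rfl fun A _ => h1 A, ← Finset.mul_sum,
    ← finsum_eq_sum_of_fintype, sum_hom_fw hW, if_neg hL, mul_zero]

variable {V : Type*} [AddCommGroup V] [Module K V] [FiniteDimensional K V]

/-- The endomorphism killing a subspace attached to its two components. -/
noncomputable def blockEnd {W U : Submodule K V} (h : IsCompl W U) (p : (U →ₗ[K] W) × (U →ₗ[K] U)) :
    Module.End K V :=
  (Submodule.prodEquivOfIsCompl W U h).conj ((p.1.prod p.2).comp (LinearMap.snd K W U))

/-- The squares of the weight over the nilpotent endomorphisms. -/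
theorem sum_nilpotent (hV : Module.finrank K V ≠ 0) :
    ∑ᶠ (N : Module.End K V) (_ : IsNilpotent N),
        fw (Nat.card K) (Module.finrank K (LinearMap.ker N)) ^ 2 =
      ww (Nat.card K) (Module.finrank K V) * fw (Nat.card K) (Module.finrank K V) := by
  classical
  haveI : Finite V := Module.finite_of_finite K
  haveI : Finite (Module.End K V) := Finite.of_injective _ DFunLike.coe_injective
  letI := Fintype.ofFinite (Module.End K V)
  letI := Fintype.ofFinite (Submodule K V)
  set Q : ℂ := (Nat.card K : ℂ)
  set nil := (univ : Finset (Module.End K V)).filter IsNilpotent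
  set fk : Module.End K V → ℂ := fun N => fw Q (Module.finrank K (LinearMap.ker N)) with hfk
  rw [finsum_eq_sum_of_fintype]
  simp only [finsum_eq_if]
  rw [← Finset.sum_filter]
  have hexp : ∀ N : Module.End K V, fk N =
      ∑ W ∈ univ.filter (fun W : Submodule K V => W ≤ LinearMap.ker N),
        ww Q (Module.finrank K W) := by
    intro N
    show fw Q _ = _
    rw [← subSum_ww, subSum]
    letI := Fintype.ofFinite (Submodule K (LinearMap.ker N))
    rw [finsum_eq_sum_of_fintype]
    refine Finset.sum_bij (fun X _ => X.map (LinearMap.ker N).subtype) ?_ ?_ ?_ ?_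
    · exact fun X _ => mem_filter.2 ⟨mem_univ _, Submodule.map_subtype_le _ X⟩
    · exact fun X _ Y _ h =>
        Submodule.map_injective_of_injective (LinearMap.ker N).injective_subtype h
    · intro W hW
      refine ⟨W.comap (LinearMap.ker N).subtype, mem_univ _, ?_⟩
      rw [Submodule.map_comap_subtype, inf_eq_right.2 (mem_filter.1 hW).2]
    · intro X _
      rw [Submodule.finrank_map_subtype_eq]
  show ∑ N ∈ nil, fk N ^ 2 = _
  rw [Finset.sum_congr rfl fun N _ => show fk N ^ 2 = _ by rw [pow_two]]
  conv_lhs => arg 2; ext N; arg 2; rw [hexp N]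
  simp only [Finset.mul_sum]
  rw [Finset.sum_comm' (t' := univ)
    (s' := fun W => nil.filter fun N => W ≤ LinearMap.ker N) (by intros; simp)]
  rw [Finset.sum_eq_single (⊤ : Submodule K V)]
  · have hset : nil.filter (fun N => (⊤ : Submodule K V) ≤ LinearMap.ker N) = {0} := by
      ext N
      simp only [nil, mem_filter, mem_univ, true_and, mem_singleton]
      constructor
      · rintro ⟨-, h⟩
        exact LinearMap.ker_eq_top.1 (top_le_iff.1 h)
      · rintro rfl
        exact ⟨IsNilpotent.zero, by rw [LinearMap.ker_zero]⟩
    have hz : Module.finrank K (LinearMap.ker (0 : Module.End K V)) = Module.finrank K V := by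
      rw [show LinearMap.ker (0 : Module.End K V) = ⊤ from LinearMap.ker_zero, finrank_top]
    rw [hset, Finset.sum_singleton, finrank_top, hfk]
    simp only [hz]
    ring
  · intro W _ hW
    rw [← Finset.sum_mul]
    rcases eq_or_ne W ⊥ with rfl | hW0
    · rw [finrank_bot, show ww Q 0 = 0 by simp [ww], mul_zero]
    refine mul_eq_zero_of_left ?_ _
    obtain ⟨U, hU⟩ := exists_isCompl W
    have hU0 : Module.finrank K U ≠ 0 := fun h => hW (by
      have h2 := hU.sup_eq_top
      rwa [Submodule.finrank_eq_zero.1 h, sup_bot_eq] at h2)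
    have hW' : Module.finrank K W ≠ 0 := fun h => hW0 (Submodule.finrank_eq_zero.1 h)
    haveI : Finite W := Module.finite_of_finite K
    haveI : Finite U := Module.finite_of_finite K
    haveI : Finite (U →ₗ[K] W) := Finite.of_injective _ DFunLike.coe_injective
    haveI : Finite (U →ₗ[K] U) := Finite.of_injective _ DFunLike.coe_injective
    letI := Fintype.ofFinite (U →ₗ[K] W)
    letI := Fintype.ofFinite (U →ₗ[K] U)
    set e := Submodule.prodEquivOfIsCompl W U hU with he
    have happ : ∀ p (z : W × U), blockEnd hU p (e z) = e (p.1 z.2, p.2 z.2) := by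
      intro p z
      rw [blockEnd, ← he, LinearEquiv.conj_apply_apply, LinearEquiv.symm_apply_apply]
      rfl
    have hnil : ∀ p, IsNilpotent (blockEnd hU p) ↔ IsNilpotent p.2 := by
      intro p
      have hpow : ∀ (i : ℕ) (z : W × U), (blockEnd hU p ^ (i + 1)) (e z) =
          e (p.1 ((p.2 ^ i) z.2), (p.2 ^ (i + 1)) z.2) := by
        intro i
        induction i with
        | zero => intro z; simp [happ]
        | succ i ih =>
          intro z
          rw [pow_succ', Module.End.mul_apply, ih, happ]
          simp [pow_succ', Module.End.mul_apply]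
      constructor
      · rintro ⟨r, hr⟩
        refine ⟨r + 1, LinearMap.ext fun u => ?_⟩
        have h := hpow r ((0 : W), u)
        rw [pow_succ, hr, zero_mul, LinearMap.zero_apply, eq_comm,
          LinearEquiv.map_eq_zero_iff] at h
        exact (Prod.mk_eq_zero.1 h).2
      · rintro ⟨r, hr⟩
        refine ⟨r + 1, LinearMap.ext fun v => ?_⟩
        obtain ⟨z, rfl⟩ := e.surjective v
        rw [hpow r z, pow_succ', hr]
        simp
    have hker : ∀ p, Module.finrank K (LinearMap.ker (blockEnd hU p)) =
        Module.finrank K W +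
          Module.finrank K (LinearMap.ker (p.1.comp (LinearMap.ker p.2).subtype)) := by
      intro p
      have h1 : LinearMap.ker (blockEnd hU p) =
          ((⊤ : Submodule K W).prod (LinearMap.ker p.1 ⊓ LinearMap.ker p.2)).map
            e.toLinearMap := by
        ext v
        obtain ⟨z, rfl⟩ := e.surjective v
        simp [happ, Submodule.mem_map_equiv, Prod.ext_iff]
      have h2 : LinearMap.ker p.1 ⊓ LinearMap.ker p.2 =
          (LinearMap.ker (p.1.comp (LinearMap.ker p.2).subtype)).map
            (LinearMap.ker p.2).subtype := by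
        rw [LinearMap.ker_comp, Submodule.map_comap_subtype, inf_comm]
      rw [h1, ← (e.submoduleMap _).finrank_eq, h2]
      set B := LinearMap.ker (p.1.comp (LinearMap.ker p.2).subtype)
      have h3 : (⊤ : Submodule K W).prod (B.map (LinearMap.ker p.2).subtype) =
          LinearMap.range ((LinearMap.id : W →ₗ[K] W).prodMap
            ((LinearMap.ker p.2).subtype.comp B.subtype)) := by
        rw [LinearMap.range_prodMap, LinearMap.range_id, LinearMap.range_comp,
          Submodule.range_subtype]
      haveI : Module.Free K B := Module.Free.of_divisionRing K B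
      rw [h3, LinearMap.finrank_range_of_inj, Module.finrank_prod]
      exact Function.Injective.prodMap (fun _ _ h => h)
        ((LinearMap.ker p.2).injective_subtype.comp B.injective_subtype)
    set nilU := (univ : Finset (U →ₗ[K] U)).filter (fun B : Module.End K U => IsNilpotent B)
    have hbij : ∑ N ∈ nil.filter (fun N => W ≤ LinearMap.ker N), fk N =
        ∑ p ∈ (univ : Finset (U →ₗ[K] W)) ×ˢ nilU, fk (blockEnd hU p) := by
      refine (Finset.sum_bij (fun p _ => blockEnd hU p) ?_ ?_ ?_ (fun _ _ => rfl)).symm
      · intro p hp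
        simp only [nil, mem_filter, mem_univ, true_and, hnil]
        refine ⟨(mem_filter.1 (mem_product.1 hp).2).2, fun w hw => ?_⟩
        have h := happ p (⟨w, hw⟩, 0)
        simpa [e] using h
      · intro p _ p' _ h
        refine Prod.ext (LinearMap.ext fun u => ?_) (LinearMap.ext fun u => ?_)
        all_goals
          have h' := congrArg (fun N : Module.End K V => e.symm (N (e ((0 : W), u)))) h
          simp only [happ, LinearEquiv.symm_apply_apply, Prod.mk.injEq] at h'
        · exact h'.1
        · exact h'.2
      · intro N hN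
        obtain ⟨h1, h2⟩ := mem_filter.1 hN
        let p : (U →ₗ[K] W) × (U →ₗ[K] U) :=
          ((LinearMap.fst K W U).comp (e.symm.toLinearMap.comp (N.comp U.subtype)),
            (LinearMap.snd K W U).comp (e.symm.toLinearMap.comp (N.comp U.subtype)))
        have hp : blockEnd hU p = N := by
          refine LinearMap.ext fun v => ?_
          obtain ⟨z, rfl⟩ := e.surjective v
          rw [happ]
          have h0 : N (e z) = N (z.2 : V) := by
            rw [show e z = (z.1 : V) + (z.2 : V) by simp [e], map_add,
              LinearMap.mem_ker.1 (h2 z.1.2), zero_add]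
          rw [h0, ← e.apply_symm_apply (N (z.2 : V))]
          rfl
        refine ⟨p, mem_product.2 ⟨mem_univ _, mem_filter.2 ⟨mem_univ _, ?_⟩⟩, hp⟩
        exact (hnil p).1 (hp ▸ (mem_filter.1 h1).2)
    rw [hbij, Finset.sum_product_right]
    refine Finset.sum_eq_zero fun B hB => ?_
    show ∑ C, fw Q (Module.finrank K (LinearMap.ker (blockEnd hU (C, B)))) = 0
    simp only [hker]
    exact sum_hom_restrict hW' (LinearMap.ker B) (finrank_ker_ne_zero (mem_filter.1 hB).2 hU0)
  · exact fun h => absurd (mem_univ _) h

theorem prod_GL_eq (Q : ℂ) (m : ℕ) :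
    ∏ i ∈ range m, (Q ^ m - Q ^ i) = mw Q m * ∏ i ∈ range m, (1 - Q ^ (i + 1)) := by
  induction m with
  | zero => simp [mw]
  | succ m ih =>
    rw [prod_range_succ', prod_range_succ, mw_succ]
    have h : ∏ i ∈ range m, (Q ^ (m + 1) - Q ^ (i + 1)) =
        Q ^ m * ∏ i ∈ range m, (Q ^ m - Q ^ i) := by
      rw [Finset.prod_congr rfl fun i _ => show Q ^ (m + 1) - Q ^ (i + 1) = Q * (Q ^ m - Q ^ i) by
        ring, prod_mul_distrib, prod_const, card_range]
    rw [h, ih, pow_zero]
    ring

/-- The order of the general linear group against the weights. -/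
theorem ww_mul_fw (m : ℕ) (hm : m ≠ 0) :
    ww (Nat.card K) m * fw (Nat.card K) m * ((Nat.card K : ℂ) ^ m - 1) =
      m * (Nat.card (GL (Fin m) K) : ℂ) := by
  classical
  letI := Fintype.ofFinite K
  set Q : ℂ := (Nat.card K : ℂ) with hQ
  rw [Matrix.card_GL_field, Nat.cast_prod]
  have h : ∀ i : Fin m, ((Nat.card K ^ m - Nat.card K ^ (i : ℕ) : ℕ) : ℂ) = Q ^ m - Q ^ (i : ℕ) := by
    intro i
    rw [Nat.cast_sub (Nat.pow_le_pow_right Nat.card_pos i.2.le), Nat.cast_pow, Nat.cast_pow]
  simp only [← Nat.card_eq_fintype_card (α := K), h]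
  rw [Fin.prod_univ_eq_prod_range (fun i => Q ^ m - Q ^ i) m, prod_GL_eq]
  obtain ⟨j, rfl⟩ := Nat.exists_eq_succ_of_ne_zero hm
  rw [ww, fw, prod_range_succ]
  simp only [Nat.succ_eq_add_one, pow_succ]
  ring

theorem conj_fw (Q : ℕ) (m : ℕ) : (starRingEnd ℂ) (fw Q m) = fw Q m := by
  rcases m with _ | m <;> simp [fw, map_prod]

end nil

end Cfsg.Agent.GLCusp
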