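/-
The lift to the complex numbers of the trace of a matrix representation over a finite field, read
off from the roots of the characteristic polynomial, is a generalized character.
-/
import Cfsg.Agent.Lib.BrauerChar.Virtual
import Cfsg.Agent.Lib.GLCusp.Lattice

set_option autoImplicit false
set_option linter.style.haveILetI false
set_option linter.unusedSectionVars false

namespace Cfsg.Agent.GLCusp

open Cfsg Polynomial Cfsg.Agent.Blocks Cfsg.Agent.BrauerPairs Cfsg.Agent.BrauerChar

universe u

section frob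

variable {k : Type*} [Field k] {p : ℕ} [hp : Fact p.Prime] [CharP k p] {j : ℕ}

/-- Endomorphisms with the same iterated `p`-th power have the same characteristic polynomial. -/
theorem charpoly_eq_of_pow_eq {A B : Matrix (Fin j) (Fin j) k} {a : ℕ}
    (h : A ^ p ^ a = B ^ p ^ a) : A.charpoly = B.charpoly := by
  rcases Nat.eq_zero_or_pos j with rfl | hj
  · rw [Subsingleton.elim A B]
  haveI : Nonempty (Fin j) := ⟨⟨0, hj⟩⟩
  have key : ∀ A : Matrix (Fin j) (Fin j) k, Matrix.charmatrix A ^ p ^ a =
      Matrix.scalar (Fin j) ((X : k[X]) ^ p ^ a) - (C : k →+* k[X]).mapMatrix (A ^ p ^ a) := by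
    intro A
    rw [Matrix.charmatrix, sub_pow_char_pow_of_commute _ _ (Matrix.scalar_commute _ (Commute.all _) _),
      map_pow, map_pow]
  have h1 : A.charpoly ^ p ^ a = B.charpoly ^ p ^ a := by
    rw [Matrix.charpoly, Matrix.charpoly, ← Matrix.det_pow, ← Matrix.det_pow, key, key, h]
  have h2 : (A.charpoly - B.charpoly) ^ p ^ a = 0 := by
    rw [sub_pow_char_pow, h1, sub_self]
  exact sub_eq_zero.1 (pow_eq_zero_iff (pow_ne_zero _ hp.out.ne_zero) |>.1 h2)

end frob

variable {M : Ideal AlgInt} [M.IsPrime] {p : ℕ}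

section eig

variable {G : Type u} [Group G] [Fintype G]

theorem zeta_inv {m : ℕ} (hm : 0 < m) : zetaR M m * zetaR M m ^ (m - 1) = 1 := by
  rw [← pow_succ', Nat.sub_add_cancel hm, (isPrimitiveRoot_zetaR hm).pow_eq_one]

theorem single_mul_eigR {u : G} (j : ℕ) :
    MonoidAlgebra.single u 1 * eigR M u j = zetaR M (orderOf u) ^ j • eigR M u j := by
  classical
  have hm := orderOf_pos u
  set m := orderOf u with hmdef
  set η := zetaR M m ^ (m - 1) with hη
  have hηm : η ^ m = 1 := by
    rw [hη, ← pow_mul, mul_comm, pow_mul, (isPrimitiveRoot_zetaR hm).pow_eq_one, one_pow]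
  set x : MonoidAlgebra (locRing M) G := MonoidAlgebra.single u (η ^ j) with hx
  have hxm : x ^ m = 1 := by
    rw [hx, MonoidAlgebra.single_pow, hmdef, pow_orderOf_eq_one, ← hmdef, ← pow_mul, mul_comm,
      pow_mul, hηm, one_pow, MonoidAlgebra.one_def]
  have he : eigR M u j = invR M m • ∑ i ∈ Finset.range m, x ^ i := by
    rw [eigR]
    congr 1
    refine Finset.sum_congr rfl fun i _ => ?_
    rw [hx, MonoidAlgebra.single_pow, mul_comm i, pow_mul]
  have h1 : x * eigR M u j = eigR M u j := by
    have h := mul_geom_sum x m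
    rw [hxm, sub_self, sub_mul, one_mul, sub_eq_zero] at h
    rw [he, mul_smul_comm, h]
  have h2 : MonoidAlgebra.single u (1 : locRing M) = zetaR M m ^ j • x := by
    rw [hx, MonoidAlgebra.smul_single, smul_eq_mul, ← mul_pow, hη, zeta_inv hm, one_pow]
  rw [h2, smul_mul_assoc, h1]

theorem eigR_mul_eq_zero {u : G} {i j : ℕ} (hi : i < orderOf u) (hj : j < orderOf u)
    (hne : i ≠ j) : eigR M u i * eigR M u j = 0 := by
  classical
  have hc : Commute (MonoidAlgebra.single u (1 : locRing M)) (eigR M u i) := by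
    rw [eigR]
    refine Commute.smul_right (Commute.sum_right _ _ _ fun a _ => ?_) _
    rw [Commute, SemiconjBy, MonoidAlgebra.single_mul_single, MonoidAlgebra.single_mul_single,
      ← pow_succ', ← pow_succ, one_mul, mul_one]
  have h1 : zetaR M (orderOf u) ^ i • (eigR M u i * eigR M u j) =
      zetaR M (orderOf u) ^ j • (eigR M u i * eigR M u j) := by
    rw [← smul_mul_assoc, ← single_mul_eigR, hc.eq, mul_assoc, single_mul_eigR, mul_smul_comm]
  refine gaExt fun a => ?_
  have h2 : zetaR M (orderOf u) ^ i * (eigR M u i * eigR M u j).coeff a =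
      zetaR M (orderOf u) ^ j * (eigR M u i * eigR M u j).coeff a := by
    simpa using congrArg (fun z : MonoidAlgebra (locRing M) G => z.coeff a) h1
  rw [← sub_eq_zero, ← sub_mul] at h2
  simpa using (mul_eq_zero.1 h2).resolve_left (sub_ne_zero.2 fun h =>
    hne ((isPrimitiveRoot_zetaR (orderOf_pos u)).pow_inj hi hj h))

theorem sum_eigR_one (hM : IsPModular p M) {u : G} (hu : ¬ p ∣ orderOf u) :
    ∑ j ∈ Finset.range (orderOf u), eigR M u j = 1 := by
  classical
  have hm := orderOf_pos u
  set m := orderOf u with hmdef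
  set η := zetaR M m ^ (m - 1) with hη
  simp only [eigR, ← hmdef, ← hη, ← Finset.smul_sum]
  rw [Finset.sum_comm, Finset.sum_eq_single 0]
  · simp only [pow_zero, zero_mul, Finset.sum_const, Finset.card_range, ← MonoidAlgebra.one_def]
    rw [← Nat.cast_smul_eq_nsmul (locRing M), smul_smul, invR_mul hM hu, one_smul]
  · intro i hi hi0
    rw [show ∑ j ∈ Finset.range m, MonoidAlgebra.single (u ^ i) (η ^ (i * j)) =
      MonoidAlgebra.single (u ^ i) (∑ j ∈ Finset.range m, η ^ (i * j)) from
        (map_sum (MonoidAlgebra.singleAddHom (R := locRing M) (u ^ i)) _ _).symm]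
    have hw : η ^ i ≠ 1 := by
      intro h
      refine (isPrimitiveRoot_zetaR (M := M) hm).pow_ne_one_of_pos_of_lt hi0 (Finset.mem_range.1 hi) ?_
      calc zetaR M m ^ i = zetaR M m ^ i * η ^ i := by rw [h, mul_one]
        _ = 1 := by rw [← mul_pow, hη, zeta_inv hm, one_pow]
    have hwm : (η ^ i) ^ m = 1 := by
      rw [hη, ← pow_mul, ← pow_mul, show (m - 1) * (i * m) = m * ((m - 1) * i) by ring, pow_mul,
        (isPrimitiveRoot_zetaR hm).pow_eq_one, one_pow]
    have hsum : ∑ j ∈ Finset.range m, η ^ (i * j) = 0 := by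
      simp only [pow_mul]
      have h := geom_sum_mul (η ^ i) m
      rw [hwm, sub_self] at h
      exact (mul_eq_zero.1 h).resolve_right (sub_ne_zero.2 hw)
    rw [hsum, MonoidAlgebra.single_zero]
  · exact fun h => absurd (Finset.mem_range.2 hm) h

end eig

/-- The lift of a root of unity of the residue field. -/
noncomputable def teich (M : Ideal AlgInt) [M.IsPrime] (p : ℕ) (x : resField M) : ℂ :=
  open Classical in
  if h : ∃ z : locRing M, (∃ m : ℕ, ¬ p ∣ m ∧ z ^ m = 1) ∧ res M z = x then (h.choose : ℂ) else 0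

theorem res_eq_one (hM : IsPModular p M) {z : locRing M} {m : ℕ} (hm : ¬ p ∣ m) (hz : z ^ m = 1)
    (h : res M z = 1) : z = 1 := by
  haveI := resField_charP hM
  by_contra hne
  have hs : ∑ i ∈ Finset.range m, z ^ i = 0 := by
    have h' := geom_sum_mul z m
    rw [hz, sub_self] at h'
    exact (mul_eq_zero.1 h').resolve_right (sub_ne_zero.2 hne)
  have h2 := congrArg (res M) hs
  simp only [map_sum, map_pow, h, one_pow, map_zero, Finset.sum_const, Finset.card_range,
    nsmul_eq_mul, mul_one] at h2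
  exact hm ((CharP.cast_eq_zero_iff (resField M) p m).1 h2)

theorem res_inj_roots (hM : IsPModular p M) {z w : locRing M} {m l : ℕ} (hm : ¬ p ∣ m)
    (hz : z ^ m = 1) (hl : ¬ p ∣ l) (hw : w ^ l = 1) (h : res M z = res M w) : z = w := by
  have hl0 : 0 < l := Nat.pos_of_ne_zero fun h0 => hl (h0 ▸ dvd_zero p)
  have hinv : w * w ^ (l - 1) = 1 := by rw [← pow_succ', Nat.sub_add_cancel hl0, hw]
  have h1 : z * w ^ (l - 1) = 1 := by
    refine res_eq_one hM (fun hd => (hM.1.dvd_mul.1 hd).elim hm hl) (m := m * l) ?_ ?_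
    · rw [mul_pow, pow_mul, hz, one_pow, one_mul, ← pow_mul,
        show (l - 1) * (m * l) = l * ((l - 1) * m) by ring, pow_mul, hw, one_pow]
    · rw [map_mul, h, ← map_mul, hinv, map_one]
  calc z = z * (w * w ^ (l - 1)) := by rw [hinv, mul_one]
    _ = w * (z * w ^ (l - 1)) := by ring
    _ = w := by rw [h1, mul_one]

theorem teich_res (hM : IsPModular p M) {z : locRing M} {m : ℕ} (hm : ¬ p ∣ m) (hz : z ^ m = 1) :
    teich M p (res M z) = (z : ℂ) := by
  have h : ∃ w : locRing M, (∃ l : ℕ, ¬ p ∣ l ∧ w ^ l = 1) ∧ res M w = res M z :=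
    ⟨z, ⟨m, hm, hz⟩, rfl⟩
  rw [teich, dif_pos h]
  obtain ⟨⟨l, hl, hw⟩, hr⟩ := h.choose_spec
  rw [res_inj_roots hM hl hw hm hz hr]

theorem exists_root_lift (hM : IsPModular p M) {x : resField M} {m : ℕ} (hm : ¬ p ∣ m)
    (hx : x ^ m = 1) : ∃ z : locRing M, z ^ m = 1 ∧ res M z = x := by
  have hm0 : 0 < m := Nat.pos_of_ne_zero fun h0 => hm (h0 ▸ dvd_zero p)
  have hζ := isPrimitiveRoot_zetaR (M := M) hm0
  have hprim : IsPrimitiveRoot (res M (zetaR M m)) m := by
    refine ⟨by rw [← map_pow, hζ.pow_eq_one, map_one], fun l hl => hζ.dvd_of_pow_eq_one l ?_⟩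
    refine res_eq_one hM hm ?_ (by rw [map_pow, hl])
    rw [← pow_mul, mul_comm, pow_mul, hζ.pow_eq_one, one_pow]
  haveI : NeZero m := ⟨hm0.ne'⟩
  obtain ⟨i, -, rfl⟩ := hprim.eq_pow_of_pow_eq_one hx
  exact ⟨zetaR M m ^ i, by rw [← pow_mul, mul_comm, pow_mul, hζ.pow_eq_one, one_pow],
    map_pow _ _ _⟩

theorem card_sub_one_not_dvd (hp : p.Prime) {E : Type*} [Field E] [Fintype E] [CharP E p] :
    ¬ p ∣ Fintype.card E - 1 := by
  obtain ⟨e, -, hcard⟩ := FiniteField.card E p
  intro h
  have h1 : p ∣ Fintype.card E := hcard ▸ dvd_pow_self p e.2.ne'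
  have h2 := Nat.dvd_sub h1 h
  rw [Nat.sub_sub_self Fintype.card_pos] at h2
  exact hp.one_lt.ne' (Nat.dvd_one.1 h2)

/-- The lift is an injective character of the multiplicative group of a finite subfield. -/
theorem teich_char (hM : IsPModular p M) {E : Type*} [Field E] [Finite E] (ψ : E →+* resField M) :
    (∀ x y : E, x ≠ 0 → y ≠ 0 → teich M p (ψ (x * y)) = teich M p (ψ x) * teich M p (ψ y)) ∧
      (∀ x : E, x ≠ 0 → teich M p (ψ x) = 1 → x = 1) ∧
      (∀ x : E, x ≠ 0 → teich M p (ψ x) ^ (Nat.card E - 1) = 1) ∧ teich M p 1 = 1 := by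
  haveI := resField_charP hM
  haveI : CharP E p := ψ.charP ψ.injective p
  letI := Fintype.ofFinite E
  have hnd : ¬ p ∣ Nat.card E - 1 := by
    rw [Nat.card_eq_fintype_card]; exact card_sub_one_not_dvd hM.1
  have hlift : ∀ x : E, x ≠ 0 → ∃ z : locRing M, z ^ (Nat.card E - 1) = 1 ∧ res M z = ψ x ∧
      teich M p (ψ x) = (z : ℂ) := by
    intro x hx
    obtain ⟨z, hz, hzx⟩ := exists_root_lift hM hnd (x := ψ x) (by
      rw [← map_pow, Nat.card_eq_fintype_card, FiniteField.pow_card_sub_one_eq_one x hx, map_one])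
    exact ⟨z, hz, hzx, hzx ▸ teich_res hM hnd hz⟩
  refine ⟨fun x y hx hy => ?_, fun x hx h1 => ?_, fun x hx => ?_, ?_⟩
  · obtain ⟨a, ha, hax, ea⟩ := hlift x hx
    obtain ⟨b, hb, hby, eb⟩ := hlift y hy
    rw [ea, eb, map_mul, ← hax, ← hby, ← map_mul,
      teich_res hM hnd (by rw [mul_pow, ha, hb, one_mul]), Subring.coe_mul]
  · obtain ⟨a, ha, hax, ea⟩ := hlift x hx
    rw [ea] at h1
    rw [show a = 1 from Subtype.ext h1, map_one] at hax
    exact ψ.injective (by rw [← hax, map_one])
  · obtain ⟨a, ha, hax, ea⟩ := hlift x hx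
    rw [ea, ← SubmonoidClass.coe_pow, ha]
    rfl
  · have h := teich_res hM hnd (z := (1 : locRing M)) (one_pow _)
    rwa [map_one] at h

section lift

variable {G : Type u} [Group G] [Fintype G] {j : ℕ}

theorem det_one_add_smul {k : Type*} [Field k] {P : Matrix (Fin j) (Fin j) k} (hP : P * P = P)
    (c : k[X]) :
    (1 + c • (C : k →+* k[X]).mapMatrix P).det = (1 + c) ^ P.rank := by
  obtain ⟨A, B, hAB, hBA⟩ := exists_rank_factor hP
  have h1 : (C : k →+* k[X]).mapMatrix P = A.map C * B.map C := by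
    rw [RingHom.mapMatrix_apply]
    conv_lhs => rw [← hAB]
    rw [Matrix.map_mul]
  rw [h1, ← Matrix.smul_mul, Matrix.det_one_add_mul_comm, Matrix.mul_smul, ← Matrix.map_mul, hBA,
    Matrix.map_one _ (map_zero _) (map_one _),
    show (1 : Matrix (Fin P.rank) (Fin P.rank) k[X]) + c • 1 = (1 + c) • 1 by
      rw [add_smul, one_smul],
    Matrix.det_smul, Fintype.card_fin, Matrix.det_one, mul_one]

/-- The Brauer character through the roots of the characteristic polynomial. -/
theorem br_eq_roots (hM : IsPModular p M)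
    (f : MonoidAlgebra (resField M) G →ₐ[resField M] Matrix (Fin j) (Fin j) (resField M))
    {u : G} (hu : ¬ p ∣ orderOf u) :
    br p (ofMat f) u =
      (((f (MonoidAlgebra.single u 1)).charpoly.roots).map (teich M p)).sum := by
  classical
  have hm := orderOf_pos u
  set m := orderOf u with hmdef
  set ζ := zetaR M m
  set P : ℕ → Matrix (Fin j) (Fin j) (resField M) := fun i => f (eigK M u i) with hPdef
  have hidem : ∀ i, P i * P i = P i := fun i => by
    simp only [P, ← map_mul, eigK_idem hM hu]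
  have horth : ∀ i < m, ∀ l < m, i ≠ l → P i * P l = 0 := fun i hi l hl hne => by
    simp only [P, ← map_mul, eigK, eigR_mul_eq_zero hi hl hne, map_zero]
  have hone : ∑ i ∈ Finset.range m, P i = 1 := by
    simp only [P, eigK, ← map_sum, hmdef, sum_eigR_one hM hu, map_one]
  have hA : f (MonoidAlgebra.single u 1) = ∑ i ∈ Finset.range m, res M ζ ^ i • P i := by
    simp only [P, ← map_smul, ← map_sum]
    rw [sum_eigK hM hu]
  let c : ℕ → (resField M)[X] := fun i => X - C (res M ζ ^ i) - 1
  let T : ℕ → Matrix (Fin j) (Fin j) (resField M)[X] := fun i =>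
    c i • (C : resField M →+* (resField M)[X]).mapMatrix (P i)
  have hdet : ∀ s : Finset ℕ, s ⊆ Finset.range m →
      (1 + ∑ i ∈ s, T i).det = ∏ i ∈ s, (X - C (res M ζ ^ i)) ^ (P i).rank := by
    intro s
    induction s using Finset.induction_on with
    | empty => intro _; simp
    | insert a s ha ih =>
      intro hs
      have h1 : (1 + T a) * (1 + ∑ i ∈ s, T i) = 1 + ∑ i ∈ insert a s, T i := by
        have h0 : T a * ∑ i ∈ s, T i = 0 := by
          rw [Finset.mul_sum]
          refine Finset.sum_eq_zero fun i hi => ?_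
          simp only [T]
          rw [Matrix.smul_mul, Matrix.mul_smul, ← map_mul,
            horth a (Finset.mem_range.1 (hs (Finset.mem_insert_self a s))) i
              (Finset.mem_range.1 (hs (Finset.mem_insert_of_mem hi)))
              (fun e => ha (e ▸ hi)), map_zero, smul_zero, smul_zero]
        rw [add_mul, one_mul, mul_add, mul_one, h0, add_zero, Finset.sum_insert ha]
        abel
      rw [← h1, Matrix.det_mul, ih ((Finset.subset_insert a s).trans hs), Finset.prod_insert ha]
      simp only [T]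
      rw [det_one_add_smul (hidem a)]
      simp [c]
  have hchar : (f (MonoidAlgebra.single u 1)).charpoly =
      ∏ i ∈ Finset.range m, (X - C (res M ζ ^ i)) ^ (P i).rank := by
    rw [← hdet _ subset_rfl, Matrix.charpoly]
    congr 1
    have h1 : ∀ i, T i = Matrix.scalar (Fin j) X *
        (C : resField M →+* (resField M)[X]).mapMatrix (P i) -
          (C : resField M →+* (resField M)[X]).mapMatrix (res M ζ ^ i • P i) -
          (C : resField M →+* (resField M)[X]).mapMatrix (P i) := by
      intro i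
      ext a b
      simp [T, c, sub_mul, Matrix.scalar_apply, Matrix.diagonal_mul]
    rw [Matrix.charmatrix, Finset.sum_congr rfl fun i _ => h1 i, Finset.sum_sub_distrib,
      Finset.sum_sub_distrib, ← Finset.mul_sum, ← map_sum, hone, map_one, mul_one, ← map_sum,
      ← hA]
    abel
  rw [hchar, Polynomial.roots_prod _ _ (Finset.prod_ne_zero_iff.2 fun i _ =>
    pow_ne_zero _ (X_sub_C_ne_zero _)), Multiset.map_bind, Multiset.sum_bind, br, if_pos hu]
  refine Finset.sum_congr rfl fun i _ => ?_
  rw [roots_pow, roots_X_sub_C, Multiset.map_nsmul, Multiset.map_singleton, Multiset.sum_nsmul,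
    Multiset.sum_singleton, nsmul_eq_mul, ← map_pow,
    teich_res hM (hmdef ▸ hu) (by
      rw [← pow_mul, mul_comm, pow_mul, (isPrimitiveRoot_zetaR hm).pow_eq_one, one_pow]),
    SubmonoidClass.coe_pow]
  rfl

/-- The lifted trace of a representation over a finite field is a generalized character. -/
theorem isGeneralizedCharacter_rootSum (hM : IsPModular p M) {F : Type*} [Field F]
    (ι : F →+* resField M) (ρ : G →* Matrix (Fin j) (Fin j) F) :
    IsGeneralizedCharacter G (fun g => rootSum ι (teich M p) (ρ g).charpoly) := by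
  classical
  haveI := resField_charP hM
  haveI : Fact p.Prime := ⟨hM.1⟩
  let f : MonoidAlgebra (resField M) G →ₐ[resField M] Matrix (Fin j) (Fin j) (resField M) :=
    MonoidAlgebra.lift (resField M) (Matrix (Fin j) (Fin j) (resField M)) G
      (ι.mapMatrix.toMonoidHom.comp ρ)
  convert isGeneralizedCharacter_brExt hM (ofMat f) using 1
  funext g
  set n' := Nat.card G / p ^ (Nat.card G).factorization p with hn'
  set m' := p ^ (Nat.card G).factorization p with hm'
  have hco : Nat.Coprime n' m' :=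
    (Nat.Coprime.pow_left ((Nat.card G).factorization p)
      (Nat.coprime_ordCompl hM.1 (Nat.card_pos (α := G)).ne')).symm
  set y := g ^ Cfsg.Agent.Char.hallExp hco with hy
  have hg : g ^ (n' * m') = 1 := by
    rw [mul_comm, hm', hn', Nat.ordProj_mul_ordCompl_eq_self, pow_card_eq_one']
  have hyr : ¬ p ∣ orderOf y := fun h =>
    Nat.not_dvd_ordCompl hM.1 (Nat.card_pos (α := G)).ne'
      (h.trans (orderOf_dvd_of_pow_eq_one (Cfsg.Agent.Char.hallExp_pow_pow hco hg)))
  have hpow : g ^ m' = y ^ m' := by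
    conv_lhs => rw [← Cfsg.Agent.Char.hallExp_mul hco hg]
    rw [(Commute.pow_pow (Commute.refl g) _ _).mul_pow,
      Cfsg.Agent.Char.hallExp_pow_pow hco.symm (by rwa [mul_comm]), mul_one]
  have hfs : ∀ x : G, f (MonoidAlgebra.single x 1) = (ρ x).map ι := fun x => by
    simp [f]
  show _ = br p (ofMat f) y
  rw [br_eq_roots hM f hyr, rootSum, ← Matrix.charpoly_map]
  congr 3
  refine charpoly_eq_of_pow_eq (p := p) (a := (Nat.card G).factorization p) ?_
  rw [hfs, ← hm', ← RingHom.mapMatrix_apply, ← RingHom.mapMatrix_apply, ← map_pow, ← map_pow,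
    ← map_pow, ← map_pow, hpow]

end lift

end Cfsg.Agent.GLCusp
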