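/-
The cuspidal class function of a linear action of a finite group is a generalized character.
-/
import Cfsg.Agent.Lib.GLCusp.Lift

set_option autoImplicit false
set_option linter.style.haveILetI false
set_option linter.unusedSectionVars false

namespace Cfsg.Agent.GLCusp

open Cfsg Polynomial Cfsg.Agent.Blocks Cfsg.Agent.BrauerPairs Cfsg.Agent.Char

universe u v

section orbit

variable {H : Type u} [Group H] [Fintype H] {X : Type v} [MulAction H X]

open Classical in
/-- A sum over the fixed points in a stable set of a family of generalized characters of the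
stabilizers is a generalized character. -/
theorem isGeneralizedCharacter_fixedSum (S : Finset X) (hS : ∀ (h : H), ∀ x ∈ S, h • x ∈ S)
    (Fn : X → H → ℂ)
    (heq : ∀ x ∈ S, ∀ h y : H, y • x = x → Fn (h • x) (h * y * h⁻¹) = Fn x y)
    (hgen : ∀ x ∈ S,
      IsGeneralizedCharacter (MulAction.stabilizer H x) (fun y : MulAction.stabilizer H x => Fn x y)) :
    IsGeneralizedCharacter H (fun g => ∑ x ∈ S.filter (fun x => g • x = x), Fn x g) := by
  induction S using Finset.strongInduction with
  | H S ih =>
    rcases S.eq_empty_or_nonempty with rfl | ⟨x, hx⟩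
    · simp only [Finset.filter_empty, Finset.sum_empty]
      exact isGeneralizedCharacter_zero
    set O := S.filter (fun z => z ∈ MulAction.orbit H x) with hO
    set S' := S.filter (fun z => z ∉ MulAction.orbit H x) with hS'
    have hlt : S' ⊂ S := Finset.filter_ssubset.2 ⟨x, hx, not_not.2 (MulAction.mem_orbit_self x)⟩
    have hmemO : ∀ (h : H) (z : X), h • z ∈ MulAction.orbit H x ↔ z ∈ MulAction.orbit H x :=
      fun h z => by rw [← MulAction.orbit_eq_iff, ← MulAction.orbit_eq_iff, MulAction.orbit_smul]
    have h1 := ih S' hlt (fun h z hz => by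
      obtain ⟨hzS, hzo⟩ := Finset.mem_filter.1 hz
      exact Finset.mem_filter.2 ⟨hS h z hzS, fun h' => hzo ((hmemO h z).1 h')⟩)
      (fun z hz => heq z (Finset.filter_subset _ _ hz))
      (fun z hz => hgen z (Finset.filter_subset _ _ hz))
    have hind := IsGeneralizedCharacter.indFun (MulAction.stabilizer H x) (hgen x hx)
    convert IsGeneralizedCharacter.add h1 hind using 1
    funext g
    rw [Pi.add_apply, ← Finset.sum_filter_add_sum_filter_not
      (S.filter fun z => g • z = z) (fun z => z ∉ MulAction.orbit H x), Finset.filter_filter,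
      Finset.filter_filter]
    congr 1
    · refine Finset.sum_congr ?_ fun _ _ => rfl
      rw [hS', Finset.filter_filter]
      exact Finset.filter_congr fun z _ => and_comm
    rw [indFun_apply]
    have hterm : ∀ y : H,
        Cfsg.extendByZero (MulAction.stabilizer H x) (fun w : MulAction.stabilizer H x => Fn x w)
          (y⁻¹ * g * y) = if g • (y • x) = y • x then Fn (y • x) g else 0 := by
      intro y
      split_ifs with hy
      · have hmem : y⁻¹ * g * y ∈ MulAction.stabilizer H x := by
          rw [MulAction.mem_stabilizer_iff, mul_smul, mul_smul, hy, inv_smul_smul]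
        rw [extendByZero_mem _ _ hmem,
          ← heq x hx y _ (MulAction.mem_stabilizer_iff.1 hmem)]
        congr 1
        group
      · refine extendByZero_not_mem _ _ fun hmem => hy ?_
        rw [MulAction.mem_stabilizer_iff, mul_smul, mul_smul, inv_smul_eq_iff] at hmem
        exact hmem
    rw [Finset.sum_congr rfl fun y _ => hterm y]
    have hfib : ∀ z : X, z ∈ MulAction.orbit H x →
        (Finset.univ.filter (fun y : H => y • x = z)).card =
          Nat.card (MulAction.stabilizer H x) := by
      rintro z ⟨y₀, rfl⟩
      rw [← Fintype.card_subtype, ← Nat.card_eq_fintype_card]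
      refine (Nat.card_congr ((Equiv.mulLeft y₀).subtypeEquiv fun y => ?_)).symm
      simp [MulAction.mem_stabilizer_iff, mul_smul]
    have hO' : ∀ y ∈ (Finset.univ : Finset H), y • x ∈ O := fun y _ =>
      Finset.mem_filter.2 ⟨hS y x hx, y, rfl⟩
    have hconst : ∀ z ∈ O, ∑ y ∈ Finset.univ.filter (fun y : H => y • x = z),
        (if g • (y • x) = y • x then Fn (y • x) g else 0) =
          (Nat.card (MulAction.stabilizer H x) : ℂ) * (if g • z = z then Fn z g else 0) := by
      intro z hz
      rw [Finset.sum_congr rfl fun y hy => by rw [(Finset.mem_filter.1 hy).2], Finset.sum_const,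
        hfib z (Finset.mem_filter.1 hz).2, nsmul_eq_mul]
    rw [← Finset.sum_fiberwise_of_maps_to hO', Finset.sum_congr rfl hconst, ← Finset.mul_sum,
      ← mul_assoc, inv_mul_cancel₀ (Nat.cast_ne_zero.2 Nat.card_pos.ne'), one_mul,
      ← Finset.sum_filter, hO, Finset.filter_filter]
    exact Finset.sum_congr (Finset.filter_congr fun z _ => by
      rw [not_not, and_comm]) fun _ _ => rfl

end orbit

variable {F : Type*} [Field F] [Finite F] {V : Type v} [AddCommGroup V] [Module F V]
  [FiniteDimensional F V]

section transport

variable {g g' : Module.End F V} (e : V ≃ₗ[F] V) (he : ∀ x, g' (e x) = e (g x))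

include he in
theorem inv_map_iff (U : Submodule F V) : Inv g' (U.map e.toLinearMap) ↔ Inv g U := by
  constructor
  · intro h x hx
    obtain ⟨y, hy, hy'⟩ := h (e x) ⟨x, hx, rfl⟩
    rw [he] at hy'
    exact e.injective hy' ▸ hy
  · rintro h _ ⟨x, hx, rfl⟩
    exact ⟨g x, h x hx, (he x).symm⟩

include he in
theorem nu_map {W : Submodule F V} (hW : Inv g W) : nu g' (W.map e.toLinearMap) = nu g W := by
  classical
  symm
  refine nu_eq_of (fun _ => True) (fun _ _ _ _ => trivial) (fun U => nu g' (U.map e.toLinearMap))
    (by simp [nu_bot]) (fun U hU _ hU0 => ?_) W hW trivial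
  rw [← sum_nu (g := g') ((inv_map_iff e he U).2 hU) (fun h => hU0 ?_)]
  · refine Finset.sum_nbij' (fun X => X.map e.toLinearMap) (fun X => X.map e.symm.toLinearMap)
      ?_ ?_ ?_ ?_ (fun _ _ => rfl)
    · intro X hX
      exact mem_below.2 ⟨(inv_map_iff e he X).2 (mem_below.1 hX).1,
        Submodule.map_mono (mem_below.1 hX).2⟩
    · intro X hX
      have h1 : (X.map e.symm.toLinearMap).map e.toLinearMap = X := by
        rw [← Submodule.map_comp]; simp
      refine mem_below.2 ⟨(inv_map_iff e he _).1 (h1.symm ▸ (mem_below.1 hX).1), ?_⟩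
      have h2 := Submodule.map_mono (f := e.symm.toLinearMap) (mem_below.1 hX).2
      rwa [← Submodule.map_comp, show e.symm.toLinearMap.comp e.toLinearMap = LinearMap.id by
        ext; simp, Submodule.map_id] at h2
    · intro X _; show (X.map _).map _ = X
      rw [← Submodule.map_comp]; simp
    · intro X _; show (X.map _).map _ = X
      rw [← Submodule.map_comp]; simp
  · exact Submodule.map_injective_of_injective e.injective (by rw [h, Submodule.map_bot])

variable {k : Type*} [Field k] (ι : F →+* k) (θ : k → ℂ)

include he in
theorem lval_map {W : Submodule F V} (hW : Inv g W) :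
    lval ι θ g' (W.map e.toLinearMap) = lval ι θ g W := by
  rw [lval_eq ι θ hW]
  exact lval_congr ι θ ((inv_map_iff e he W).2 hW) (g.restrict hW) (e.submoduleMap W)
    fun x => (he x).symm

end transport

variable {H : Type u} [Group H] [Fintype H] (ρ : H →* Module.End F V)

/-- The automorphism attached to a group element. -/
noncomputable def act (h : H) : V ≃ₗ[F] V :=
  LinearEquiv.ofLinearMap (ρ h) (ρ h⁻¹) (by rw [← Module.End.mul_eq_comp, ← map_mul, mul_inv_cancel,
      map_one, Module.End.one_eq_id])
    (by rw [← Module.End.mul_eq_comp, ← map_mul, inv_mul_cancel, map_one, Module.End.one_eq_id])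

theorem act_intertwine (h y : H) (x : V) : ρ (h * y * h⁻¹) (act ρ h x) = act ρ h (ρ y x) := by
  show ρ (h * y * h⁻¹) (ρ h x) = ρ h (ρ y x)
  rw [← Module.End.mul_apply, ← map_mul, inv_mul_cancel_right, map_mul, Module.End.mul_apply]

/-- The action on the subspaces. -/
@[reducible]
def subAction : MulAction H (Submodule F V) where
  smul h W := W.map (ρ h)
  one_smul W := by
    show W.map (ρ 1) = W
    rw [map_one, Module.End.one_eq_id, Submodule.map_id]
  mul_smul a b W := by
    show W.map (ρ (a * b)) = (W.map (ρ b)).map (ρ a)
    rw [map_mul, Module.End.mul_eq_comp, Submodule.map_comp]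

theorem map_eq_iff_inv (h : H) (W : Submodule F V) : W.map (ρ h) = W ↔ Inv (ρ h) W := by
  constructor
  · intro e x hx
    rw [← e]
    exact ⟨x, hx, rfl⟩
  · intro hI
    refine Submodule.eq_of_le_of_finrank_eq (Submodule.map_le_iff_le_comap.2 hI) ?_
    exact (LinearEquiv.finrank_eq ((act ρ h).submoduleMap W)).symm

/-- The Moebius function at a subspace is a generalized character of a group fixing it. -/
theorem isGeneralizedCharacter_nu : ∀ (j : ℕ) (H : Type u) [Group H] [Fintype H]
    (ρ : H →* Module.End F V) (W : Submodule F V), Module.finrank F W ≤ j →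
    (∀ h, Inv (ρ h) W) → IsGeneralizedCharacter H (fun h => nu (ρ h) W) := by
  classical
  intro j
  induction j using Nat.strong_induction_on with
  | _ j ih =>
    intro H _ _ ρ W hj hW
    rcases eq_or_ne W ⊥ with rfl | hW0
    · simp only [nu_bot]
      exact IsGeneralizedCharacter.of_isCharacter isCharacter_one
    letI := subAction ρ
    letI := Fintype.ofFinite (Submodule F V)
    set S := Finset.univ.filter (fun U : Submodule F V => U < W) with hS
    have h1 := isGeneralizedCharacter_fixedSum (H := H) S (fun h U hU => ?_)
      (fun U y => nu (ρ y) U) (fun U _ h y hy => ?_) (fun U hU => ?_)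
    · convert IsGeneralizedCharacter.neg h1 using 1
      funext g
      rw [Pi.neg_apply]
      have h2 := sum_nu (hW g) hW0
      rw [← Finset.add_sum_erase _ _ (mem_below.2 ⟨hW g, le_rfl⟩ : W ∈ below (ρ g) W)] at h2
      have h3 : (below (ρ g) W).erase W = S.filter (fun U => g • U = U) := by
        ext U
        simp only [Finset.mem_erase, mem_below, hS, Finset.mem_filter, Finset.mem_univ, true_and,
          lt_iff_le_and_ne, ← map_eq_iff_inv]
        show _ ↔ _ ∧ U.map (ρ g) = U
        tauto
      rw [h3] at h2
      exact eq_neg_of_add_eq_zero_left h2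
    · simp only [hS, Finset.mem_filter, Finset.mem_univ, true_and] at hU ⊢
      have h2 : (h • U : Submodule F V) ≤ W :=
        (Submodule.map_mono hU.le).trans ((map_eq_iff_inv ρ h W).2 (hW h)).le
      refine lt_of_le_of_ne h2 fun e => hU.ne ?_
      refine Submodule.eq_of_le_of_finrank_eq hU.le ?_
      calc Module.finrank F U = Module.finrank F (U.map (ρ h)) :=
            LinearEquiv.finrank_eq ((act ρ h).submoduleMap U)
        _ = Module.finrank F W := by rw [show U.map (ρ h) = W from e]
    · exact nu_map (act ρ h) (act_intertwine ρ h y) ((map_eq_iff_inv ρ y U).1 hy)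
    · simp only [hS, Finset.mem_filter, Finset.mem_univ, true_and] at hU
      exact ih (Module.finrank F U) (lt_of_lt_of_le (Submodule.finrank_lt_finrank_of_lt hU) hj)
        (MulAction.stabilizer H U) (ρ.comp (MulAction.stabilizer H U).subtype) U le_rfl
        (fun y => (map_eq_iff_inv ρ (y : H) U).1 y.2)

variable {M : Ideal AlgInt} [M.IsPrime] {p : ℕ}

/-- The lifted trace at a fixed subspace is a generalized character. -/
theorem isGeneralizedCharacter_lval (hM : IsPModular p M) (ι : F →+* resField M)
    (W : Submodule F V) (hW : ∀ h, Inv (ρ h) W) :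
    IsGeneralizedCharacter H (fun h => lval ι (teich M p) (ρ h) W) := by
  classical
  let b := Module.finBasis F W
  let σ : H →* Matrix (Fin (Module.finrank F W)) (Fin (Module.finrank F W)) F :=
    { toFun := fun h => LinearMap.toMatrix b b ((ρ h).restrict (hW h))
      map_one' := by
        rw [show (ρ 1).restrict (hW 1) = LinearMap.id from LinearMap.ext fun x => Subtype.ext (by
          simp), LinearMap.toMatrix_id]
      map_mul' := fun x y => by
        rw [← LinearMap.toMatrix_mul]
        congr 1
        refine LinearMap.ext fun z => Subtype.ext ?_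
        simp
        rfl }
  convert isGeneralizedCharacter_rootSum hM ι σ using 1
  funext h
  rw [lval_eq ι _ (hW h)]
  congr 1
  exact (LinearMap.charpoly_toMatrix _ b).symm

/-- The cuspidal class function is a generalized character. -/
theorem isGeneralizedCharacter_phi (hM : IsPModular p M) (ι : F →+* resField M) :
    IsGeneralizedCharacter H (fun h => phi ι (teich M p) (ρ h)) := by
  classical
  letI := subAction ρ
  letI := Fintype.ofFinite (Submodule F V)
  have h1 := isGeneralizedCharacter_fixedSum (H := H) (Finset.univ : Finset (Submodule F V))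
    (fun _ _ _ => Finset.mem_univ _)
    (fun U y => nu (ρ y) U * lval ι (teich M p) (ρ y) U) (fun U _ h y hy => ?_) (fun U _ => ?_)
  · convert h1 using 1
    funext g
    refine Finset.sum_congr ?_ fun _ _ => rfl
    ext U
    simp only [mem_below, le_top, and_true, Finset.mem_filter, Finset.mem_univ, true_and]
    exact (map_eq_iff_inv ρ g U).symm
  · have hU := (map_eq_iff_inv ρ y U).1 hy
    show nu (ρ (h * y * h⁻¹)) (U.map (act ρ h).toLinearMap) *
      lval ι (teich M p) (ρ (h * y * h⁻¹)) (U.map (act ρ h).toLinearMap) = _
    rw [nu_map (act ρ h) (act_intertwine ρ h y) hU,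
      lval_map (act ρ h) (act_intertwine ρ h y) ι _ hU]
  · exact IsGeneralizedCharacter.mul
      (isGeneralizedCharacter_nu _ (MulAction.stabilizer H U)
        (ρ.comp (MulAction.stabilizer H U).subtype) U le_rfl
        (fun y => (map_eq_iff_inv ρ (y : H) U).1 y.2))
      (isGeneralizedCharacter_lval (ρ.comp (MulAction.stabilizer H U).subtype) hM ι U
        (fun y => (map_eq_iff_inv ρ (y : H) U).1 y.2))

end Cfsg.Agent.GLCusp
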