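/-
The automorphisms whose characteristic polynomial is a power of a given irreducible polynomial, and
the sum of the squares of the cuspidal class function over them.
-/
import Cfsg.Agent.Lib.GLCusp.Virtual
import Cfsg.Agent.Lib.GLCusp.Primary

set_option autoImplicit false
set_option linter.style.haveILetI false
set_option linter.unusedSectionVars false

namespace Cfsg.Agent.GLCusp

open Finset Polynomial

section conjInv

variable {F : Type*} [Field F] [Finite F] {V : Type*} [AddCommGroup V] [Module F V]
  [FiniteDimensional F V] {k : Type*} [Field k] (ι : F →+* k) (θ : k → ℂ)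

theorem phi_map {g g' : Module.End F V} (e : V ≃ₗ[F] V) (he : ∀ x, g' (e x) = e (g x)) :
    phi ι θ g' = phi ι θ g := by
  classical
  refine (Finset.sum_nbij' (fun X => X.map e.toLinearMap) (fun X => X.map e.symm.toLinearMap)
    ?_ ?_ ?_ ?_ ?_).symm
  · intro X hX
    exact mem_below.2 ⟨(inv_map_iff e he X).2 (mem_below.1 hX).1, le_top⟩
  · intro X hX
    have h1 : (X.map e.symm.toLinearMap).map e.toLinearMap = X := by
      rw [← Submodule.map_comp]; simp
    exact mem_below.2 ⟨(inv_map_iff e he _).1 (h1.symm ▸ (mem_below.1 hX).1), le_top⟩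
  · intro X _; show (X.map _).map _ = X
    rw [← Submodule.map_comp]; simp
  · intro X _; show (X.map _).map _ = X
    rw [← Submodule.map_comp]; simp
  · intro X hX
    rw [nu_map e he (mem_below.1 hX).1, lval_map e he ι θ (mem_below.1 hX).1]

theorem phi_conj (e g : (Module.End F V)ˣ) :
    phi ι θ ((e * g * e⁻¹ : (Module.End F V)ˣ) : Module.End F V) = phi ι θ (g : Module.End F V) := by
  refine phi_map ι θ (LinearMap.GeneralLinearGroup.toLinearEquiv e) fun x => ?_
  show ((e * g * e⁻¹ : (Module.End F V)ˣ) : Module.End F V) ((e : Module.End F V) x) =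
    (e : Module.End F V) ((g : Module.End F V) x)
  rw [← Module.End.mul_apply, ← Units.val_mul, inv_mul_cancel_right, Units.val_mul,
    Module.End.mul_apply]

end conjInv

variable {F : Type*} [Field F] [Finite F] {V : Type*} [AddCommGroup V] [Module F V]
  [FiniteDimensional F V]

/-- A space with the scalars acting through a representation of a larger field. -/
def Twist {K : Type*} [Field K] [Algebra F K] (_τ : K →ₐ[F] Module.End F V) : Type _ := V

section twist

variable {K : Type*} [Field K] [Algebra F K] (τ : K →ₐ[F] Module.End F V)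

noncomputable instance : AddCommGroup (Twist τ) := inferInstanceAs (AddCommGroup V)

noncomputable instance : Module F (Twist τ) := inferInstanceAs (Module F V)

noncomputable instance : FiniteDimensional F (Twist τ) := inferInstanceAs (FiniteDimensional F V)

noncomputable instance : Module K (Twist τ) :=
  Module.compHom (R := Module.End F V) V τ.toRingHom

theorem twist_smul (c : K) (x : Twist τ) : c • x = (τ c (x : V) : V) := rfl

instance : IsScalarTower F K (Twist τ) :=
  ⟨fun a c x => by
    show τ (a • c) (x : V) = a • τ c (x : V)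
    rw [map_smul]
    rfl⟩

theorem finrank_mul_twist :
    Module.finrank F K * Module.finrank K (Twist τ) = Module.finrank F V :=
  Module.finrank_mul_finrank F K (Twist τ)

end twist

/-- The semisimple part of an endomorphism killed by a power of an irreducible polynomial. -/
theorem exists_semisimple {K : Type*} [Field K] [Finite K] [Algebra F K] {α : K}
    (hgen : ∀ c : K, ∃ f : F[X], aeval α f = c) (g : Module.End F V)
    (hg : IsNilpotent (aeval g (minpoly F α))) :
    ∃ τ : K →ₐ[F] Module.End F V, IsNilpotent (g - τ α) ∧ ∀ c, Commute (τ c) g := by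
  classical
  rcases subsingleton_or_nontrivial V with hV | hV
  · haveI : Subsingleton (Module.End F V) :=
      ⟨fun a b => LinearMap.ext fun x => Subsingleton.elim _ _⟩
    refine ⟨AlgHom.mk ⟨⟨⟨fun _ => 1, rfl⟩, fun _ _ => Subsingleton.elim _ _⟩,
      Subsingleton.elim _ _, fun _ _ => Subsingleton.elim _ _⟩ (fun _ => Subsingleton.elim _ _),
      ⟨1, Subsingleton.elim _ _⟩, fun c => Subsingleton.elim _ _⟩
  haveI : Module.Finite F K := Module.Finite.of_finite
  letI := Fintype.ofFinite F
  letI := Fintype.ofFinite K
  obtain ⟨r, hr⟩ := hg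
  set d := Module.finrank F K with hd
  have hdpos : 0 < d := Module.finrank_pos
  have hcard : Fintype.card K = Fintype.card F ^ d := by
    rw [← Nat.card_eq_fintype_card, ← Nat.card_eq_fintype_card]
    exact Module.natCard_eq_pow_finrank
  -- the semisimple part
  set s := g ^ Fintype.card K ^ r with hs
  have hq : ∀ i, aeval (g ^ Fintype.card F ^ i) (minpoly F α) =
      aeval g (minpoly F α) ^ Fintype.card F ^ i := by
    intro i
    induction i with
    | zero => simp
    | succ i ih =>
      rw [pow_succ, pow_mul, ← expand_aeval, FiniteField.expand_card, map_pow, ih, ← pow_mul]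
  have hs0 : aeval s (minpoly F α) = 0 := by
    rw [hs, hcard, ← pow_mul, hq]
    refine pow_eq_zero_of_le ?_ hr
    calc r ≤ d * r := Nat.le_mul_of_pos_left r hdpos
      _ ≤ Fintype.card F ^ (d * r) := (Nat.lt_pow_self Fintype.one_lt_card).le
  have hint : IsIntegral F α := IsIntegral.of_finite F α
  have htop : Algebra.adjoin F {α} = ⊤ := by
    rw [Algebra.adjoin_singleton_eq_range_aeval]
    exact eq_top_iff.2 fun c _ => hgen c
  let pb := PowerBasis.ofAdjoinEqTop hint htop
  have hgen' : pb.gen = α := PowerBasis.ofAdjoinEqTop_gen hint htop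
  let τ : K →ₐ[F] Module.End F V := pb.lift s (by rw [hgen']; exact hs0)
  have hτ : τ α = s := by rw [← hgen']; exact pb.lift_gen s _
  have hsr : s ^ Fintype.card K ^ r = s := by
    rw [← hτ, ← map_pow, FiniteField.pow_card_pow]
  refine ⟨τ, ⟨Fintype.card K ^ r, ?_⟩, fun c => ?_⟩
  · obtain ⟨p, hp⟩ := CharP.exists K
    obtain ⟨e, hpr, hKc⟩ := FiniteField.card K p
    haveI : Fact p.Prime := ⟨hpr⟩
    haveI : CharP F p := (algebraMap F K).charP (algebraMap F K).injective p
    haveI : CharP (Module.End F V) p := charP_of_injective_algebraMap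
      (FaithfulSMul.algebraMap_injective F (Module.End F V)) p
    rw [hτ, hKc, ← pow_mul,
      sub_pow_char_pow_of_commute _ _ (by rw [hs]; exact Commute.self_pow g _), pow_mul, ← hKc,
      hsr, ← hs, sub_self]
  · obtain ⟨f, rfl⟩ := hgen c
    rw [← aeval_algHom_apply, hτ]
    have h1 : Commute (aeval s f) (aeval g (X : F[X])) := by
      rw [show s = aeval g ((X : F[X]) ^ Fintype.card K ^ r) by rw [map_pow, aeval_X],
        ← aeval_comp]
      exact (Commute.all _ _).map (aeval (R := F) g)
    rwa [aeval_X] at h1

section count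

variable {K : Type*} [Field K] [Finite K] [Algebra F K] [Module K V] [IsScalarTower F K V]
  {α : K}

/-- The restriction of scalars of an endomorphism, as a ring homomorphism. -/
def rsHom : Module.End K V →+* Module.End F V where
  toFun N := N.restrictScalars F
  map_one' := rfl
  map_mul' _ _ := rfl
  map_zero' := rfl
  map_add' _ _ := rfl

theorem rsHom_apply (N : Module.End K V) (v : V) : rsHom (F := F) N v = N v := rfl

theorem aeval_rsHom (x : Module.End K V) (f : F[X]) :
    aeval (rsHom (F := F) x) f = rsHom (F := F) (aeval x (f.map (algebraMap F K))) := by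
  induction f using Polynomial.induction_on' with
  | add a b ha hb => simp [map_add, Polynomial.map_add, ha, hb]
  | monomial i a =>
    rw [map_monomial, aeval_monomial, aeval_monomial, map_mul, map_pow]
    congr 1
    refine LinearMap.ext fun v => ?_
    rw [rsHom_apply, Module.algebraMap_end_apply, Module.algebraMap_end_apply, algebraMap_smul]

theorem isUnit_prim (hα : α ≠ 0) {N : Module.End K V} (hN : IsNilpotent N) :
    IsUnit (algebraMap K (Module.End K V) α + N) :=
  hN.isUnit_add_left_of_commute ((IsUnit.mk0 α hα).map _) (Algebra.commute_algebraMap_right _ _)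

open Classical in
/-- The standard automorphism with given nilpotent part. -/
noncomputable def primU (α : K) (N : Module.End K V) : (Module.End F V)ˣ :=
  if h : IsUnit (algebraMap K (Module.End K V) α + N) then
    Units.map (rsHom (F := F)).toMonoidHom h.unit else 1

theorem primU_apply (hα : α ≠ 0) {N : Module.End K V} (hN : IsNilpotent N) (v : V) :
    (primU (F := F) α N : Module.End F V) v = α • v + N v := by
  rw [primU, dif_pos (isUnit_prim hα hN)]
  rfl

theorem primU_eq (hα : α ≠ 0) {N : Module.End K V} (hN : IsNilpotent N) :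
    (primU (F := F) α N : Module.End F V) = rsHom (algebraMap K (Module.End K V) α + N) :=
  LinearMap.ext fun v => primU_apply hα hN v

theorem primU_nilpotent (hα : α ≠ 0) {N : Module.End K V} (hN : IsNilpotent N) :
    IsNilpotent (aeval (primU (F := F) α N : Module.End F V) (minpoly F α)) := by
  rw [primU_eq hα hN, aeval_rsHom]
  refine IsNilpotent.map ?_ _
  set P := (minpoly F α).map (algebraMap F K)
  have h0 : (P.comp (X + C α)).coeff 0 = 0 := by
    rw [coeff_zero_eq_eval_zero, eval_comp]
    simp [P]
  obtain ⟨R, hR⟩ := Polynomial.X_dvd_iff.2 h0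
  have h1 : aeval (algebraMap K (Module.End K V) α + N) P = aeval N (P.comp (X + C α)) := by
    rw [aeval_comp, map_add, aeval_X, aeval_C, add_comm]
  rw [h1, hR, map_mul, aeval_X]
  refine Commute.isNilpotent_mul_right ?_ hN
  simpa using (Commute.all (X : K[X]) R).map (aeval (R := K) N)

/-- A power of the standard automorphism is the scalar. -/
theorem primU_pow (hα : α ≠ 0) {N : Module.End K V} (hN : IsNilpotent N) {r : ℕ} (hr : N ^ r = 0)
    {M : ℕ} (hM : r ≤ M) (v : V) :
    ((primU (F := F) α N : Module.End F V) ^ Nat.card K ^ M) v = α • v := by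
  rw [primU_eq hα hN, ← map_pow, rsHom_apply]
  rcases subsingleton_or_nontrivial V with hV | hV
  · exact Subsingleton.elim _ _
  letI := Fintype.ofFinite K
  obtain ⟨p, hp⟩ := CharP.exists K
  obtain ⟨e, hpr, hKc⟩ := FiniteField.card K p
  haveI : Fact p.Prime := ⟨hpr⟩
  haveI : FiniteDimensional K V := Module.Finite.right F K V
  haveI : CharP (Module.End K V) p := charP_of_injective_algebraMap
    (FaithfulSMul.algebraMap_injective K (Module.End K V)) p
  have hNr : N ^ Nat.card K ^ M = 0 :=
    pow_eq_zero_of_le (hM.trans (Nat.lt_pow_self (Finite.one_lt_card)).le) hr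
  rw [Nat.card_eq_fintype_card, hKc, ← pow_mul] at hNr ⊢
  rw [add_pow_char_pow_of_commute _ _ (Algebra.commute_algebraMap_left _ _), hNr, add_zero,
    ← map_pow, pow_mul, ← hKc, FiniteField.pow_card_pow, Module.algebraMap_end_apply]

/-- The automorphisms attached to the irreducible polynomial of `α`. -/
noncomputable def primSet [Fintype (Module.End F V)ˣ] (α : K) : Finset (Module.End F V)ˣ :=
  open Classical in univ.filter fun g => IsNilpotent (aeval (g : Module.End F V) (minpoly F α))

theorem exists_conj (hgen : ∀ c : K, ∃ f : F[X], aeval α f = c) (hα : α ≠ 0)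
    (g : (Module.End F V)ˣ) (hg : IsNilpotent (aeval (g : Module.End F V) (minpoly F α))) :
    ∃ (e : (Module.End F V)ˣ) (N : Module.End K V), IsNilpotent N ∧ e * primU α N * e⁻¹ = g := by
  classical
  haveI : Module.Finite F K := Module.Finite.of_finite
  haveI : FiniteDimensional K V := Module.Finite.right F K V
  obtain ⟨τ, hnil, hcomm⟩ := exists_semisimple hgen (g : Module.End F V) hg
  haveI : FiniteDimensional K (Twist τ) := Module.Finite.right F K (Twist τ)
  have hrk : Module.finrank K V = Module.finrank K (Twist τ) :=
    Nat.eq_of_mul_eq_mul_left (Module.finrank_pos (R := F) (M := K))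
      ((Module.finrank_mul_finrank F K V).trans (finrank_mul_twist τ).symm)
  let e0 : V ≃ₗ[F] V := (LinearEquiv.ofFinrankEq V (Twist τ) hrk).restrictScalars F
  have he0 : ∀ (c : K) (v : V), e0 (c • v) = τ c (e0 v) := fun c v =>
    (LinearEquiv.ofFinrankEq V (Twist τ) hrk).map_smul c v
  let e : (Module.End F V)ˣ := LinearMap.GeneralLinearGroup.ofLinearEquiv e0
  let N0 : Module.End F V := (g : Module.End F V) - τ α
  have hN0 : ∀ (c : K) (x : V), N0 (τ c x) = τ c (N0 x) := by
    intro c x
    have h : Commute (τ c) N0 := (hcomm c).sub_right ((Commute.all c α).map τ)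
    exact (LinearMap.congr_fun h.eq x).symm
  let N : Module.End K V :=
    { toFun := fun v => e0.symm (N0 (e0 v))
      map_add' := fun a b => by simp
      map_smul' := fun c v => by
        rw [RingHom.id_apply]
        apply e0.injective
        rw [e0.apply_symm_apply, he0, he0, e0.apply_symm_apply, hN0] }
  have hN : IsNilpotent N := by
    obtain ⟨r, hr⟩ := hnil
    refine ⟨r, ?_⟩
    have hp : ∀ (i : ℕ) (v : V), e0 ((N ^ i) v) = (N0 ^ i) (e0 v) := by
      intro i
      induction i with
      | zero => exact fun v => rfl
      | succ i ih =>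
        intro v
        rw [pow_succ', pow_succ', Module.End.mul_apply, Module.End.mul_apply, ← ih]
        exact e0.apply_symm_apply _
    refine LinearMap.ext fun v => e0.injective ?_
    rw [hp, show N0 ^ r = 0 from hr, LinearMap.zero_apply, LinearMap.zero_apply, map_zero]
  refine ⟨e, N, hN, ?_⟩
  rw [mul_inv_eq_iff_eq_mul]
  refine Units.ext (LinearMap.ext fun v => ?_)
  rw [Units.val_mul, Units.val_mul, Module.End.mul_apply, Module.End.mul_apply, primU_apply hα hN]
  show e0 (α • v + e0.symm (N0 (e0 v))) = (g : Module.End F V) (e0 v)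
  rw [map_add, he0, e0.apply_symm_apply]
  simp [N0]

/-- A sum of a class function over the automorphisms of given type is a sum over nilpotent
endomorphisms of the smaller space. -/
theorem sum_primSet [Fintype (Module.End F V)ˣ] [Fintype (Module.End K V)]
    (hgen : ∀ c : K, ∃ f : F[X], aeval α f = c) (hα : α ≠ 0)
    (h : (Module.End F V)ˣ → ℂ) (hh : ∀ e g, h (e * g * e⁻¹) = h g) :
    (Nat.card (Module.End K V)ˣ : ℂ) * ∑ g ∈ primSet α, h g =
      (Nat.card (Module.End F V)ˣ : ℂ) *
        ∑ᶠ (N : Module.End K V) (_ : IsNilpotent N), h (primU α N) := by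
  classical
  haveI : Module.Finite F K := Module.Finite.of_finite
  haveI : FiniteDimensional K V := Module.Finite.right F K V
  rw [finsum_eq_sum_of_fintype (fun N : Module.End K V => ∑ᶠ (_ : IsNilpotent N), h (primU α N))]
  simp only [finsum_eq_if]
  rw [← Finset.sum_filter]
  set nil := (univ : Finset (Module.End K V)).filter IsNilpotent
  set T := (univ : Finset (Module.End F V)ˣ) ×ˢ nil
  let Ψ : (Module.End F V)ˣ × Module.End K V → (Module.End F V)ˣ := fun p =>
    p.1 * primU α p.2 * p.1⁻¹
  have hmap : ∀ p ∈ T, Ψ p ∈ primSet α := by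
    intro p hp
    have hN : IsNilpotent p.2 := (mem_filter.1 (mem_product.1 hp).2).2
    refine mem_filter.2 ⟨mem_univ _, ?_⟩
    obtain ⟨r, hr⟩ := primU_nilpotent (F := F) hα hN
    refine ⟨r, ?_⟩
    let c := LinearMap.GeneralLinearGroup.toLinearEquiv p.1
    have hc : (Ψ p : Module.End F V) = c.conjAlgEquiv F (primU (F := F) α p.2 : Module.End F V) := by
      refine LinearMap.ext fun v => ?_
      rfl
    rw [hc, aeval_algHom_apply, ← map_pow, hr, map_zero]
  have hfib : ∀ g ∈ primSet α, (T.filter fun p => Ψ p = g).card = Nat.card (Module.End K V)ˣ := by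
    intro g hg
    obtain ⟨e, N, hN, he⟩ := exists_conj hgen hα g (mem_filter.1 hg).2
    rw [← Fintype.card_coe, ← Nat.card_eq_fintype_card]
    let U : (Module.End K V)ˣ →* (Module.End F V)ˣ := Units.map (rsHom (F := F)).toMonoidHom
    have hU : Function.Injective U := fun a b hab => Units.ext (LinearMap.ext fun v => by
      have := congrArg (fun z : (Module.End F V)ˣ => (z : Module.End F V) v) hab
      exact this)
    have hconj : ∀ (c : (Module.End K V)ˣ),
        IsNilpotent (((c⁻¹ : (Module.End K V)ˣ) : Module.End K V) * N * (c : Module.End K V)) ∧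
        U c⁻¹ * primU α N * U c = primU (F := F) α (((c⁻¹ : (Module.End K V)ˣ) : Module.End K V) * N * (c : Module.End K V)) := by
      intro c
      have h1 : IsNilpotent (((c⁻¹ : (Module.End K V)ˣ) : Module.End K V) * N * c) := by
        obtain ⟨r, hr⟩ := hN
        refine ⟨r, ?_⟩
        have hp : ∀ i : ℕ, (((c⁻¹ : (Module.End K V)ˣ) : Module.End K V) * N * c) ^ i =
            ((c⁻¹ : (Module.End K V)ˣ) : Module.End K V) * N ^ i * c := by
          intro i
          induction i with
          | zero => simp
          | succ i ih => rw [pow_succ, pow_succ, ih]; simp [mul_assoc]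
        rw [hp, hr, mul_zero, zero_mul]
      refine ⟨h1, Units.ext ?_⟩
      rw [Units.val_mul, Units.val_mul, primU_eq hα hN, primU_eq hα h1]
      show rsHom ((c⁻¹ : (Module.End K V)ˣ) : Module.End K V) * _ * rsHom (c : Module.End K V) = _
      rw [← map_mul, ← map_mul]
      congr 1
      rw [mul_add, add_mul, ← Algebra.commutes, mul_assoc, Units.inv_mul, mul_one]
    let Φ : (Module.End K V)ˣ → ↥(T.filter fun p => Ψ p = g) := fun c =>
      ⟨(e * U c, ((c⁻¹ : (Module.End K V)ˣ) : Module.End K V) * N * c), mem_filter.2
        ⟨mem_product.2 ⟨mem_univ _, mem_filter.2 ⟨mem_univ _, (hconj c).1⟩⟩, by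
          show e * U c * primU α _ * (e * U c)⁻¹ = g
          rw [← (hconj c).2, map_inv, ← he]
          group⟩⟩
    refine (Nat.card_congr (Equiv.ofBijective Φ ⟨fun a b hab => ?_, fun p => ?_⟩)).symm
    · exact hU (mul_left_cancel (congrArg (fun z => (z.1.1 : (Module.End F V)ˣ)) hab))
    · obtain ⟨⟨e', N'⟩, hp⟩ := p
      obtain ⟨hp1, hp2⟩ := mem_filter.1 hp
      have hN' : IsNilpotent N' := (mem_filter.1 (mem_product.1 hp1).2).2
      set c := e⁻¹ * e' with hc
      have hcu : c * primU α N' = primU α N * c := by
        have h' : e' * primU α N' * e'⁻¹ = e * primU α N * e⁻¹ := hp2.trans he.symm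
        rw [hc, mul_assoc, mul_inv_eq_iff_eq_mul.1 h']
        group
      obtain ⟨r, hr⟩ := hN
      obtain ⟨r', hr'⟩ := hN'
      have hα' : ∀ v, (c : Module.End F V) (α • v) = α • (c : Module.End F V) v := by
        intro v
        have hp := (SemiconjBy.pow_right (show SemiconjBy (c : Module.End F V)
          (primU (F := F) α N' : Module.End F V) (primU (F := F) α N : Module.End F V) by
            show _ = _
            rw [← Units.val_mul, hcu, Units.val_mul]) (Nat.card K ^ (max r r'))).eq
        have h2 := LinearMap.congr_fun hp v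
        rw [Module.End.mul_apply, Module.End.mul_apply,
          primU_pow hα ⟨r', hr'⟩ hr' (le_max_right r r'),
          primU_pow hα ⟨r, hr⟩ hr (le_max_left r r')] at h2
        exact h2
      have hK : ∀ (a : K) (v : V), (c : Module.End F V) (a • v) = a • (c : Module.End F V) v := by
        intro a
        obtain ⟨f, rfl⟩ := hgen a
        induction f using Polynomial.induction_on' with
        | add a b ha hb => intro v; simp [map_add, add_smul, ha v, hb v]
        | monomial i a =>
          intro v
          rw [aeval_monomial, mul_smul, mul_smul, algebraMap_smul, algebraMap_smul, map_smul]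
          congr 1
          induction i generalizing v with
          | zero => simp
          | succ i ih => rw [pow_succ', mul_smul, mul_smul, hα', ih]
      let cK : Module.End K V :=
        { toFun := (c : Module.End F V), map_add' := map_add _, map_smul' := hK }
      have hcK : IsUnit cK := by
        rw [Module.End.isUnit_iff]
        exact show Function.Bijective (c : Module.End F V) from
          (Module.End.isUnit_iff _).1 c.isUnit
      have hUc : U hcK.unit = c := Units.ext (LinearMap.ext fun v => rfl)
      refine ⟨hcK.unit, Subtype.ext (Prod.ext ?_ ?_)⟩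
      · show e * U hcK.unit = e'
        rw [hUc, hc, mul_inv_cancel_left]
      · show ((hcK.unit⁻¹ : (Module.End K V)ˣ) : Module.End K V) * N * hcK.unit = N'
        have h1 := (hconj hcK.unit).2
        rw [map_inv, hUc, mul_assoc, ← hcu, inv_mul_cancel_left] at h1
        refine LinearMap.ext fun v => ?_
        have h2 := congrArg (fun z : (Module.End F V)ˣ => (z : Module.End F V) v) h1
        rw [primU_apply hα ⟨r', hr'⟩, primU_apply hα (hconj hcK.unit).1] at h2
        exact (add_left_cancel h2).symm
  have h1 : ∑ p ∈ T, h (Ψ p) = (Nat.card (Module.End K V)ˣ : ℂ) * ∑ g ∈ primSet α, h g := by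
    rw [← Finset.sum_fiberwise_of_maps_to hmap, Finset.mul_sum]
    refine Finset.sum_congr rfl fun g hg => ?_
    rw [Finset.sum_congr rfl (fun p hp => by rw [(mem_filter.1 hp).2]), Finset.sum_const,
      hfib g hg, nsmul_eq_mul]
  rw [← h1, Finset.sum_product_right, Finset.mul_sum]
  refine Finset.sum_congr rfl fun N _ => ?_
  simp only [Ψ, hh, Finset.sum_const, nsmul_eq_mul, Finset.card_univ, Nat.card_eq_fintype_card]

variable {k : Type*} [Field k] (ι : F →+* k) (θ : k → ℂ)

/-- The squares of the class function over the automorphisms of given type. -/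
theorem sum_primSet_sq [Fintype (Module.End F V)ˣ]
    (hgen : ∀ c : K, ∃ f : F[X], aeval α f = c) (hα : α ≠ 0) (hV : Module.finrank K V ≠ 0) :
    ((Nat.card F : ℂ) ^ Module.finrank F V - 1) * ∑ g ∈ primSet (F := F) (V := V) α,
        phi ι θ (g : Module.End F V) * (starRingEnd ℂ) (phi ι θ (g : Module.End F V)) =
      (Module.finrank K V : ℂ) * (Nat.card (Module.End F V)ˣ : ℂ) *
        (rootSum ι θ (minpoly F α) * (starRingEnd ℂ) (rootSum ι θ (minpoly F α))) := by
  classical
  haveI : Module.Finite F K := Module.Finite.of_finite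
  haveI : FiniteDimensional K V := Module.Finite.right F K V
  haveI : Finite V := Module.finite_of_finite F
  haveI : Finite (Module.End K V) := Finite.of_injective _ DFunLike.coe_injective
  letI := Fintype.ofFinite (Module.End K V)
  set L := rootSum ι θ (minpoly F α)
  set m := Module.finrank K V with hm
  have hcardQ : (Nat.card F : ℂ) ^ Module.finrank F V = (Nat.card K : ℂ) ^ m := by
    rw [Module.natCard_eq_pow_finrank (K := F) (V := K), Nat.cast_pow, ← pow_mul, hm,
      Module.finrank_mul_finrank]
  have hGL : Nat.card (Module.End K V)ˣ = Nat.card (GL (Fin m) K) :=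
    Nat.card_congr (Units.mapEquiv
      (LinearMap.toMatrixAlgEquiv (Module.finBasis K V)).toMulEquiv).toEquiv
  have hsum := sum_primSet (F := F) hgen hα
    (fun g : (Module.End F V)ˣ =>
      phi ι θ (g : Module.End F V) * (starRingEnd ℂ) (phi ι θ (g : Module.End F V)))
    (fun e g => by simp only [phi_conj])
  have hval : ∀ N : Module.End K V, IsNilpotent N →
      phi ι θ (primU (F := F) α N : Module.End F V) *
        (starRingEnd ℂ) (phi ι θ (primU (F := F) α N : Module.End F V)) =
      L * (starRingEnd ℂ) L * fw (Nat.card K) (Module.finrank K (LinearMap.ker N)) ^ 2 := by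
    intro N hN
    rw [phi_primary ι θ hgen hN (primU_apply hα hN), map_neg, map_mul, conj_fw]
    ring
  rw [finsum_congr fun N => finsum_congr fun hN => hval N hN] at hsum
  rw [show ∑ᶠ (N : Module.End K V) (_ : IsNilpotent N), L * (starRingEnd ℂ) L *
      fw (Nat.card K) (Module.finrank K (LinearMap.ker N)) ^ 2 =
      L * (starRingEnd ℂ) L * ∑ᶠ (N : Module.End K V) (_ : IsNilpotent N),
      fw (Nat.card K) (Module.finrank K (LinearMap.ker N)) ^ 2 by
    rw [mul_finsum]
    exact finsum_congr fun N => by by_cases h : IsNilpotent N <;> simp [h]] at hsum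
  rw [sum_nilpotent hV, ← hm] at hsum
  have h0 : (Nat.card (Module.End K V)ˣ : ℂ) ≠ 0 := Nat.cast_ne_zero.2 Nat.card_pos.ne'
  refine mul_left_cancel₀ h0 ?_
  have hw := ww_mul_fw (K := K) m hV
  rw [← hGL] at hw
  linear_combination ((Nat.card F : ℂ) ^ Module.finrank F V - 1) * hsum +
    (Nat.card (Module.End F V)ˣ : ℂ) * (L * (starRingEnd ℂ) L) * hw +
    (Nat.card (Module.End F V)ˣ : ℂ) * (L * (starRingEnd ℂ) L) *
      (ww (Nat.card K) m * fw (Nat.card K) m) * hcardQ

end count

end Cfsg.Agent.GLCusp
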