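/-
The conjugates of an element of a finite extension of a finite field, and the sums of the lift over
them.
-/
import Cfsg.Agent.Lib.GLCusp.Count

set_option autoImplicit false
set_option linter.style.haveILetI false
set_option linter.unusedSectionVars false

namespace Cfsg.Agent.GLCusp

open Finset Polynomial

variable {F : Type*} [Field F] [Finite F] {E : Type*} [Field E] [Finite E] [Algebra F E]

theorem natCard_adjoin (α : E) :
    Nat.card (IntermediateField.adjoin F {α}) = Nat.card F ^ (minpoly F α).natDegree := by
  haveI : Module.Finite F E := Module.Finite.of_finite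
  rw [Module.natCard_eq_pow_finrank (K := F),
    IntermediateField.adjoin.finrank (IsIntegral.of_finite F α)]

theorem pow_natDegree_self (α : E) : α ^ Nat.card F ^ (minpoly F α).natDegree = α := by
  letI := Fintype.ofFinite (IntermediateField.adjoin F ({α} : Set E))
  have h := FiniteField.pow_card (IntermediateField.AdjoinSimple.gen F α)
  rw [← natCard_adjoin, Nat.card_eq_fintype_card]
  simpa using congrArg (fun x : IntermediateField.adjoin F ({α} : Set E) => (x : E)) h

theorem pow_card_pow_root (α : E) (i : ℕ) :
    aeval (α ^ Nat.card F ^ i) (minpoly F α) = 0 := by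
  letI := Fintype.ofFinite F
  induction i with
  | zero => simp
  | succ i ih =>
    rw [pow_succ, pow_mul, ← expand_aeval, Nat.card_eq_fintype_card, FiniteField.expand_card,
      map_pow, ← Nat.card_eq_fintype_card, ih, zero_pow (Nat.card_pos (α := F)).ne']

theorem pow_card_pow_injective (i : ℕ) : Function.Injective fun x : E => x ^ Nat.card F ^ i := by
  letI := Fintype.ofFinite F
  obtain ⟨p, hp⟩ := CharP.exists F
  obtain ⟨e, hpr, hF⟩ := FiniteField.card F p
  haveI : Fact p.Prime := ⟨hpr⟩
  haveI : CharP E p := charP_of_injective_algebraMap (algebraMap F E).injective p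
  intro x y h
  simp only at h
  rw [Nat.card_eq_fintype_card, hF, ← pow_mul] at h
  have h2 : (x - y) ^ p ^ ((e : ℕ) * i) = 0 := by rw [sub_pow_char_pow, h, sub_self]
  exact sub_eq_zero.1 ((pow_eq_zero_iff (pow_ne_zero _ hpr.ne_zero)).1 h2)

theorem injOn_conj (α : E) :
    Set.InjOn (fun i => α ^ Nat.card F ^ i) (Set.Iio (minpoly F α).natDegree) := by
  suffices key : ∀ i j, i < j → j < (minpoly F α).natDegree →
      α ^ Nat.card F ^ i ≠ α ^ Nat.card F ^ j by
    intro i hi j hj h
    simp only [Set.mem_Iio] at hi hj
    simp only at h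
    rcases lt_trichotomy i j with hij | hij | hij
    · exact absurd h (key i j hij hj)
    · exact hij
    · exact absurd h.symm (key j i hij hi)
  intro i j hij hj h
  obtain ⟨l, rfl⟩ : ∃ l, j = i + l := ⟨j - i, by omega⟩
  have hl : 0 < l := by omega
  have hfix : α ^ Nat.card F ^ l = α := by
    refine pow_card_pow_injective (F := F) i ?_
    show (α ^ Nat.card F ^ l) ^ Nat.card F ^ i = _
    rw [← pow_mul, ← pow_add, Nat.add_comm l i, ← h]
  haveI : Module.Finite F E := Module.Finite.of_finite
  have hall : ∀ x ∈ IntermediateField.adjoin F ({α} : Set E), x ^ Nat.card F ^ l = x := by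
    intro x hx
    rw [← IntermediateField.mem_toSubalgebra,
      IntermediateField.adjoin_simple_toSubalgebra_of_isAlgebraic
        (Algebra.IsAlgebraic.isAlgebraic α), Algebra.adjoin_singleton_eq_range_aeval] at hx
    obtain ⟨f, rfl⟩ := hx
    letI := Fintype.ofFinite F
    show (aeval α f) ^ _ = aeval α f
    have hq : ∀ i, (aeval α f) ^ Nat.card F ^ i = aeval (α ^ Nat.card F ^ i) f := by
      intro i
      induction i with
      | zero => simp
      | succ i ih =>
        rw [pow_succ, pow_mul, ih, pow_mul, ← map_pow, Nat.card_eq_fintype_card,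
          ← FiniteField.expand_card, expand_aeval]
    rw [hq, hfix]
  have hne0 : (X ^ Nat.card F ^ l - X : E[X]) ≠ 0 :=
    FiniteField.X_pow_card_sub_X_ne_zero E (Nat.one_lt_pow hl.ne' (Finite.one_lt_card))
  letI := Fintype.ofFinite E
  classical
  have hle : Nat.card (IntermediateField.adjoin F ({α} : Set E)) ≤ Nat.card F ^ l := by
    rw [Nat.card_eq_fintype_card]
    calc Fintype.card (IntermediateField.adjoin F ({α} : Set E))
        ≤ (X ^ Nat.card F ^ l - X : E[X]).roots.toFinset.card :=
          Finset.card_le_card_of_injOn (fun x => (x : E))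
            (fun x _ => Multiset.mem_toFinset.2 ((mem_roots hne0).2 (by
              rw [IsRoot, eval_sub, eval_pow, eval_X, hall x x.2, sub_self])))
            (fun _ _ _ _ h => Subtype.ext h)
      _ ≤ (X ^ Nat.card F ^ l - X : E[X]).natDegree :=
          (Multiset.toFinset_card_le _).trans (card_roots' _)
      _ = Nat.card F ^ l :=
          FiniteField.X_pow_card_sub_X_natDegree_eq E (Nat.one_lt_pow hl.ne' (Finite.one_lt_card))
  rw [natCard_adjoin] at hle
  have := (Nat.pow_le_pow_iff_right (Finite.one_lt_card (α := F))).1 hle
  omega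

/-- The roots of the minimal polynomial of an element are its conjugates, and they are distinct. -/
theorem roots_minpoly_map {L : Type*} [Field L] (ψ : E →+* L) (α : E) :
    ((minpoly F α).map (ψ.comp (algebraMap F E))).roots =
      (Finset.range (minpoly F α).natDegree).val.map fun i => ψ (α ^ Nat.card F ^ i) := by
  classical
  set f := minpoly F α
  set R := (Finset.range f.natDegree).val.map fun i => ψ (α ^ Nat.card F ^ i) with hR
  have hfm : f.Monic := minpoly.monic (IsIntegral.of_finite F α)
  have hnd : R.Nodup := by
    refine Multiset.Nodup.map_on (fun i hi j hj h => ?_) (Finset.range f.natDegree).nodup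
    exact injOn_conj α (Finset.mem_range.1 hi) (Finset.mem_range.1 hj) (ψ.injective h)
  have hsub : R ≤ (f.map (ψ.comp (algebraMap F E))).roots := by
    refine (Multiset.le_iff_subset hnd).2 fun x hx => ?_
    obtain ⟨i, -, rfl⟩ := Multiset.mem_map.1 hx
    rw [mem_roots (hfm.map _).ne_zero, IsRoot, eval_map, ← hom_eval₂, ← aeval_def,
      pow_card_pow_root, map_zero]
  refine (Multiset.eq_of_le_of_card_le hsub ((card_roots' _).trans ?_)).symm
  rw [hfm.natDegree_map, hR, Multiset.card_map, Finset.range_val, Multiset.card_range]

theorem natDegree_dvd_finrank (α : E) : (minpoly F α).natDegree ∣ Module.finrank F E := by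
  haveI : Module.Finite F E := Module.Finite.of_finite
  rw [← IntermediateField.adjoin.finrank (IsIntegral.of_finite F α)]
  exact Dvd.intro _ (Module.finrank_mul_finrank F (IntermediateField.adjoin F ({α} : Set E)) E)

theorem sum_range_periodic {d : ℕ} (φ : ℕ → ℂ) (hφ : ∀ i, φ (i + d) = φ i) (m : ℕ) :
    ∑ i ∈ range (m * d), φ i = m * ∑ i ∈ range d, φ i := by
  induction m with
  | zero => simp
  | succ m ih =>
    have h : ∀ m' i, φ (m' * d + i) = φ i := by
      intro m'
      induction m' with
      | zero => simp
      | succ m' ihm =>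
        intro i
        rw [Nat.succ_mul, show m' * d + d + i = (m' * d + i) + d by ring, hφ, ihm]
    rw [Nat.succ_mul, sum_range_add, ih, Finset.sum_congr rfl fun i _ => h m i]
    push_cast
    ring

/-- The sum of the lift over the roots of a minimal polynomial. -/
theorem rootSum_minpoly {k : Type*} [Field k] (ψ : E →+* k) (θ : k → ℂ) (α : E) :
    (Module.finrank F E : ℂ) * rootSum (ψ.comp (algebraMap F E)) θ (minpoly F α) =
      ((minpoly F α).natDegree : ℂ) *
        ∑ i ∈ range (Module.finrank F E), θ (ψ (α ^ Nat.card F ^ i)) := by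
  obtain ⟨m, hm⟩ := natDegree_dvd_finrank (F := F) α
  rw [rootSum, roots_minpoly_map, Multiset.map_map, hm, mul_comm (minpoly F α).natDegree,
    sum_range_periodic (fun i => θ (ψ (α ^ Nat.card F ^ i))) (fun i => by
      rw [pow_add, mul_comm, pow_mul, pow_natDegree_self]) m]
  push_cast
  show _ * Finset.sum _ _ = _
  simp only [Function.comp_apply]
  ring

/-- An irreducible polynomial of degree dividing the degree of the extension has exactly as many
roots in it as its degree, and it is the minimal polynomial of each. -/
theorem card_roots_ext {f : F[X]} (hf : Irreducible f) (hm : f.Monic)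
    (hd : f.natDegree ∣ Module.finrank F E) [Fintype E] [DecidableEq E] :
    ((univ : Finset E).filter fun α => aeval α f = 0).card = f.natDegree ∧
      ∀ α : E, aeval α f = 0 → minpoly F α = f := by
  haveI : Module.Finite F E := Module.Finite.of_finite
  haveI : Fact (Irreducible f) := ⟨hf⟩
  haveI : Module.Finite F (AdjoinRoot f) := (AdjoinRoot.powerBasis hf.ne_zero).finite
  haveI : Finite (AdjoinRoot f) := Module.finite_of_finite F
  have hrk : Module.finrank F (AdjoinRoot f) = f.natDegree := by
    rw [(AdjoinRoot.powerBasis hf.ne_zero).finrank, AdjoinRoot.powerBasis_dim]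
  have hmin : ∀ α : E, aeval α f = 0 → minpoly F α = f := fun α hα =>
    (minpoly.eq_of_irreducible_of_monic hf hα hm).symm
  obtain ⟨j⟩ := FiniteField.nonempty_algHom_of_finrank_dvd (F := F) (K := AdjoinRoot f) (L := E)
    (by rwa [hrk])
  set β := j (AdjoinRoot.root f)
  have hβ : aeval β f = 0 := by
    rw [aeval_algHom_apply, AdjoinRoot.aeval_eq, AdjoinRoot.mk_self, map_zero]
  refine ⟨?_, hmin⟩
  have h := roots_minpoly_map (F := F) (RingHom.id E) β
  rw [hmin β hβ, RingHom.id_comp] at h
  have hset : ((univ : Finset E).filter fun α => aeval α f = 0) =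
      (f.map (algebraMap F E)).roots.toFinset := by
    ext x
    rw [mem_filter, Multiset.mem_toFinset, mem_roots (hm.map _).ne_zero, IsRoot, eval_map,
      ← aeval_def]
    simp
  rw [hset, h, Multiset.toFinset_card_of_nodup, Multiset.card_map, Finset.range_val,
    Multiset.card_range]
  refine Multiset.Nodup.map_on (fun i hi i' hi' e => ?_) (Finset.range f.natDegree).nodup
  exact injOn_conj β (by rw [hmin β hβ]; exact Finset.mem_range.1 hi)
    (by rw [hmin β hβ]; exact Finset.mem_range.1 hi') e

end Cfsg.Agent.GLCusp
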