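/-
The norm, the degree and the cuspidality of the class function.
-/
import Cfsg.Agent.Lib.GLCusp.Orbit

set_option autoImplicit false
set_option linter.style.haveILetI false
set_option linter.unusedSectionVars false

namespace Cfsg.Agent.GLCusp

open Finset Polynomial
open scoped MatrixGroups ComplexConjugate

variable {F : Type*} [Field F] [Finite F] {E : Type*} [Field E] [Finite E] [Algebra F E]
  {k : Type*} [Field k] (ψ : E →+* k) (θ : k → ℂ)

theorem adjoin_gen_aeval (α : E) (c : IntermediateField.adjoin F ({α} : Set E)) :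
    ∃ f : F[X], aeval (IntermediateField.AdjoinSimple.gen F α) f = c := by
  haveI : Module.Finite F E := Module.Finite.of_finite
  have hc := c.2
  rw [← IntermediateField.mem_toSubalgebra,
    IntermediateField.adjoin_simple_toSubalgebra_of_isAlgebraic
      (Algebra.IsAlgebraic.isAlgebraic α), Algebra.adjoin_singleton_eq_range_aeval] at hc
  obtain ⟨f, hf⟩ := hc
  refine ⟨f, Subtype.ext ?_⟩
  exact (aeval_algHom_apply (IntermediateField.adjoin F ({α} : Set E)).val
    (IntermediateField.AdjoinSimple.gen F α) f).symm.trans hf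

theorem gen_ne_zero {α : E} (hα : α ≠ 0) : IntermediateField.AdjoinSimple.gen F α ≠ 0 :=
  fun h => hα (congrArg (fun x : IntermediateField.adjoin F ({α} : Set E) => (x : E)) h)

theorem natDegree_mul_finrank (α : E) :
    (minpoly F α).natDegree * Module.finrank (IntermediateField.adjoin F ({α} : Set E)) E =
      Module.finrank F E := by
  haveI : Module.Finite F E := Module.Finite.of_finite
  rw [← IntermediateField.adjoin.finrank (IsIntegral.of_finite F α)]
  exact Module.finrank_mul_finrank F (IntermediateField.adjoin F ({α} : Set E)) E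

/-- Where the class function does not vanish a unique irreducible polynomial is nilpotent. -/
theorem exists_poly_of_phi_ne_zero [FiniteDimensional F E] (g : (Module.End F E)ˣ)
    (hne : phi (ψ.comp (algebraMap F E)) θ (g : Module.End F E) ≠ 0) :
    ∃ f : F[X], Irreducible f ∧ f.Monic ∧ f ≠ X ∧ f.natDegree ∣ Module.finrank F E ∧
      IsNilpotent (aeval (g : Module.End F E) f) := by
  haveI : Nontrivial (Module.End F E) := ⟨⟨1, 0, fun h => one_ne_zero (α := E)
    (by simpa using LinearMap.congr_fun h 1)⟩⟩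
  set T : Module.End F E := (g : Module.End F E) with hT
  have hint : IsIntegral F T := IsIntegral.of_finite F T
  obtain ⟨f, hfm, hf, h, hmul⟩ := Polynomial.exists_monic_irreducible_factor (minpoly F T)
    (fun hu => minpoly.not_isUnit F T hu)
  have hh0 : aeval T h ≠ 0 := by
    intro h0
    have h1 : h ≠ 0 := fun e => minpoly.ne_zero hint (by rw [hmul, e, mul_zero])
    have hdeg := natDegree_le_of_dvd (minpoly.dvd F T h0) h1
    rw [hmul, natDegree_mul hfm.ne_zero h1] at hdeg
    have := hf.natDegree_pos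
    omega
  have hker : LinearMap.ker (aeval T f) ≠ ⊥ := by
    intro hb
    apply hh0
    refine LinearMap.ext fun v => LinearMap.ker_eq_bot.1 hb ?_
    rw [← Module.End.mul_apply, ← map_mul, ← hmul, minpoly.aeval]
    simp
  have hnil : IsNilpotent (aeval T f) := isNilpotent_of_phi_ne_zero _ θ hne hker
  refine ⟨f, hf, hfm, fun hX => ?_, ?_, hnil⟩
  · rw [hX, aeval_X] at hnil
    exact hnil.not_isUnit g.isUnit
  · haveI : Fact (Irreducible f) := ⟨hf⟩
    haveI : Module.Finite F (AdjoinRoot f) := (AdjoinRoot.powerBasis hf.ne_zero).finite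
    haveI : Finite (AdjoinRoot f) := Module.finite_of_finite F
    have hmin : minpoly F (AdjoinRoot.root f) = f :=
      (minpoly.eq_of_irreducible_of_monic hf
        (by rw [AdjoinRoot.aeval_eq, AdjoinRoot.mk_self]) hfm).symm
    obtain ⟨τ, -, -⟩ := exists_semisimple (K := AdjoinRoot f) (α := AdjoinRoot.root f)
      (fun c => by
        obtain ⟨P, rfl⟩ := AdjoinRoot.mk_surjective c
        exact ⟨P, AdjoinRoot.aeval_eq P⟩) T (by rw [hmin]; exact hnil)
    have hrk : Module.finrank F (AdjoinRoot f) = f.natDegree := by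
      rw [(AdjoinRoot.powerBasis hf.ne_zero).finrank, AdjoinRoot.powerBasis_dim]
    rw [← hrk]
    exact Dvd.intro _ (finrank_mul_twist τ)

theorem poly_unique {g : Module.End F E} {f f' : F[X]} (hf : Irreducible f) (hf' : Irreducible f')
    (hm : f.Monic) (hm' : f'.Monic) (h : IsNilpotent (aeval g f))
    (h' : IsNilpotent (aeval g f')) : f = f' := by
  by_contra hne
  have hcop : IsCoprime f f' := (hf.coprime_iff_not_dvd).2 fun hd =>
    hne (eq_of_monic_of_associated hm hm' (hf.associated_of_dvd hf' hd))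
  obtain ⟨a, b, hab⟩ := hcop
  have hc : ∀ x y : F[X], Commute (aeval g x) (aeval g y) := fun x y =>
    (Commute.all x y).map (aeval (R := F) g)
  have h1 : IsNilpotent (aeval g (a * f) + aeval g (b * f')) := by
    refine Commute.isNilpotent_add (hc _ _) ?_ ?_
    · rw [map_mul]; exact Commute.isNilpotent_mul_left (hc _ _) h
    · rw [map_mul]; exact Commute.isNilpotent_mul_left (hc _ _) h'
  rw [← map_add, hab, map_one] at h1
  haveI : Nontrivial (Module.End F E) := ⟨⟨1, 0, fun h => one_ne_zero (α := E)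
    (by simpa using LinearMap.congr_fun h 1)⟩⟩
  exact not_isNilpotent_one h1

/-- A class function living on the primary elements is summed over the elements of the extension. -/
theorem sum_eq_sum_primSet [FiniteDimensional F E] [Fintype (Module.End F E)ˣ] [Fintype Eˣ]
    (H : (Module.End F E)ˣ → ℂ)
    (hH : ∀ g, H g ≠ 0 → phi (ψ.comp (algebraMap F E)) θ (g : Module.End F E) ≠ 0) :
    ∑ g, H g = ∑ α : Eˣ, ((minpoly F (α : E)).natDegree : ℂ)⁻¹ *
      ∑ g ∈ primSet (F := F) (V := E) (α : E), H g := by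
  classical
  simp only [Finset.mul_sum, primSet, Finset.sum_filter]
  rw [Finset.sum_comm]
  refine Finset.sum_congr rfl fun g _ => ?_
  rcases eq_or_ne (H g) 0 with h0 | h0
  · simp [h0]
  obtain ⟨f, hf, hfm, hX, hd, hnil⟩ := exists_poly_of_phi_ne_zero ψ θ g (hH g h0)
  letI := Fintype.ofFinite E
  obtain ⟨hcard, hmin⟩ := card_roots_ext (E := E) hf hfm hd
  have hiff : ∀ α : Eˣ, IsNilpotent (aeval (g : Module.End F E) (minpoly F (α : E))) ↔
      aeval (α : E) f = 0 := by
    intro α
    have hint : IsIntegral F (α : E) := IsIntegral.of_finite F (α : E)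
    constructor
    · intro h
      rw [← poly_unique (minpoly.irreducible hint) hf (minpoly.monic hint) hfm h hnil]
      exact minpoly.aeval F _
    · intro h
      rw [hmin _ h]
      exact hnil
  simp only [hiff, mul_ite, mul_zero]
  rw [← Finset.sum_filter, Finset.sum_congr rfl fun (α : Eˣ) hα => by
      rw [hmin _ (Finset.mem_filter.1 hα).2],
    Finset.sum_const, nsmul_eq_mul]
  have hc : (univ.filter fun α : Eˣ => aeval (α : E) f = 0).card = f.natDegree := by
    rw [← hcard]
    refine Finset.card_bij (fun α _ => (α : E))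
      (fun α hα => Finset.mem_filter.2 ⟨mem_univ _, (Finset.mem_filter.1 hα).2⟩)
      (fun _ _ _ _ h => Units.ext h) fun x hx => ?_
    have hx0 : x ≠ 0 := by
      intro e
      apply hX
      rw [← hmin x (Finset.mem_filter.1 hx).2, e, minpoly.zero]
    exact ⟨Units.mk0 x hx0, Finset.mem_filter.2 ⟨mem_univ _, (Finset.mem_filter.1 hx).2⟩, rfl⟩
  rw [hc, ← mul_assoc, mul_inv_cancel₀ (Nat.cast_ne_zero.2 hf.natDegree_pos.ne'), one_mul]

variable (χ : Eˣ →* ℂ)

/-- The orthogonality of the powers of a faithful character of a cyclic group. -/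
theorem sum_char_pow [Fintype Eˣ] (hinj : Function.Injective χ) (x y : ℕ) :
    ∑ α : Eˣ, χ α ^ x * conj (χ α ^ y) =
      if x % Nat.card Eˣ = y % Nat.card Eˣ then (Nat.card Eˣ : ℂ) else 0 := by
  classical
  let u : Eˣ →* ℂˣ := χ.toHomUnits
  have hu : Function.Injective u := fun a b h => hinj (congrArg Units.val h)
  have hconj : ∀ α : Eˣ, conj (χ α) = ((u α)⁻¹ : ℂˣ) := by
    intro α
    have h1 : χ α ^ Nat.card Eˣ = 1 := by rw [← map_pow, pow_card_eq_one', map_one]
    rw [Units.val_inv_eq_inv_val, show (u α : ℂ) = χ α from rfl,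
      Complex.inv_eq_conj (Complex.norm_eq_one_of_pow_eq_one h1 Nat.card_pos.ne')]
  let f : Eˣ →* ℂˣ := u ^ x * (u ^ y)⁻¹
  have hf : ∀ α : Eˣ, χ α ^ x * conj (χ α ^ y) = ((Units.coeHom ℂ).comp f) α := by
    intro α
    rw [map_pow, hconj]
    simp [f, u]
  obtain ⟨γ, hγ⟩ := IsCyclic.exists_ofOrder_eq_natCard (α := Eˣ)
  have hf1 : (Units.coeHom ℂ).comp f = 1 ↔ x % Nat.card Eˣ = y % Nat.card Eˣ := by
    have hord : orderOf (u γ) = Nat.card Eˣ := (orderOf_injective u hu γ).trans hγ
    constructor
    · intro h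
      have h2 : f γ = 1 := Units.ext (DFunLike.congr_fun h γ)
      have h3 : u γ ^ x = u γ ^ y := by
        simpa [f, mul_inv_eq_one] using h2
      rw [← hord]
      exact pow_eq_pow_iff_modEq.1 h3
    · intro h
      refine MonoidHom.ext fun α => ?_
      have h4 : u α ^ x = u α ^ y := by
        refine pow_eq_pow_iff_modEq.2 (Nat.ModEq.of_dvd ?_ h)
        rw [orderOf_injective u hu α]
        exact orderOf_dvd_natCard α
      have h5 : f α = 1 := by simp [f, h4]
      show ((f α : ℂˣ) : ℂ) = 1
      rw [h5, Units.val_one]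
  rw [Finset.sum_congr rfl fun α _ => hf α, sum_hom_units]
  simp only [hf1, Nat.card_eq_fintype_card]
  split_ifs <;> simp

/-- The sum over the conjugates. -/
noncomputable def orbSum (F : Type*) {E : Type*} [Field E] (n : ℕ) (χ : Eˣ →* ℂ) (α : Eˣ) : ℂ :=
  ∑ i ∈ range n, χ α ^ Nat.card F ^ i

theorem rootSum_eq_orbSum (hχ : ∀ α : Eˣ, χ α = θ (ψ (α : E))) (α : Eˣ) :
    (Module.finrank F E : ℂ) * rootSum (ψ.comp (algebraMap F E)) θ (minpoly F (α : E)) =
      ((minpoly F (α : E)).natDegree : ℂ) * orbSum F (Module.finrank F E) χ α := by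
  rw [rootSum_minpoly]
  congr 1
  refine Finset.sum_congr rfl fun i _ => ?_
  rw [← Units.val_pow_eq_pow_val, ← hχ, map_pow]

/-- The class function has norm one. -/
theorem sum_phi_sq [FiniteDimensional F E] [Fintype (Module.End F E)ˣ]
    (hχ : ∀ α : Eˣ, χ α = θ (ψ (α : E))) (hinj : Function.Injective χ) :
    ∑ g : (Module.End F E)ˣ, phi (ψ.comp (algebraMap F E)) θ (g : Module.End F E) *
        conj (phi (ψ.comp (algebraMap F E)) θ (g : Module.End F E)) =
      (Nat.card (Module.End F E)ˣ : ℂ) := by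
  classical
  letI := Fintype.ofFinite Eˣ
  set ι := ψ.comp (algebraMap F E)
  set n := Module.finrank F E with hn
  have hn0 : 0 < n := Module.finrank_pos
  set G : ℂ := (Nat.card (Module.End F E)ˣ : ℂ)
  set c : ℂ := (Nat.card F : ℂ) ^ n - 1 with hc
  have hN : (Nat.card Eˣ : ℂ) = c := by
    rw [Nat.card_units, Module.natCard_eq_pow_finrank (K := F) (V := E), ← hn,
      Nat.cast_sub (Nat.one_le_pow _ _ Nat.card_pos), hc]
    push_cast
    rfl
  have hq : 1 < Nat.card F := Finite.one_lt_card
  have hlt : ∀ i < n, Nat.card F ^ i < Nat.card Eˣ ∨ n = 1 := by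
    intro i hi
    rcases Nat.lt_or_ge 1 n with h1 | h1
    · left
      rw [Nat.card_units, Module.natCard_eq_pow_finrank (K := F) (V := E), ← hn]
      have h2 : Nat.card F ^ i * 2 ≤ Nat.card F ^ n :=
        (Nat.mul_le_mul_left _ hq).trans (by
          rw [← pow_succ]; exact Nat.pow_le_pow_right (by omega) (by omega))
      have h3 : 2 * 2 ≤ Nat.card F ^ n :=
        calc 2 * 2 = 2 ^ 2 := by norm_num
          _ ≤ Nat.card F ^ 2 := Nat.pow_le_pow_left hq 2
          _ ≤ Nat.card F ^ n := Nat.pow_le_pow_right (by omega) h1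
      omega
    · right; omega
  have hS : ∑ α : Eˣ, orbSum F n χ α * conj (orbSum F n χ α) = n * c := by
    simp only [orbSum, map_sum, Finset.sum_mul, Finset.mul_sum]
    rw [Finset.sum_comm, Finset.sum_congr rfl fun i _ => Finset.sum_comm]
    simp only [sum_char_pow χ hinj]
    rw [Finset.sum_congr rfl (g := fun _ => c) fun i hi => ?_, Finset.sum_const, Finset.card_range,
      nsmul_eq_mul]
    rw [Finset.sum_eq_single i, if_pos rfl, hN]
    · intro j hj hji
      rw [Finset.mem_range] at hi hj
      rw [if_neg]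
      intro he
      rcases hlt i hi with hi' | h1
      · rcases hlt j hj with hj' | h1
        · rw [Nat.mod_eq_of_lt hi', Nat.mod_eq_of_lt hj'] at he
          exact hji (Nat.pow_right_injective hq he)
        · omega
      · omega
    · exact fun h => absurd hi h
  have hper : ∀ α : Eˣ, (n : ℂ) * c *
      (((minpoly F (α : E)).natDegree : ℂ)⁻¹ * ∑ g ∈ primSet (F := F) (V := E) (α : E),
        phi ι θ (g : Module.End F E) * conj (phi ι θ (g : Module.End F E))) =
      G * (orbSum F n χ α * conj (orbSum F n χ α)) := by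
    intro α
    set K := IntermediateField.adjoin F ({(α : E)} : Set E)
    set a := IntermediateField.AdjoinSimple.gen F (α : E)
    set d := (minpoly F (α : E)).natDegree
    set m := Module.finrank K E with hm
    have hdm : d * m = n := natDegree_mul_finrank (α : E)
    have hmin : minpoly F a = minpoly F (α : E) := IntermediateField.minpoly_gen (F := F) (α : E)
    have hm0 : m ≠ 0 := fun h => by rw [h, mul_zero] at hdm; omega
    have hP : primSet (F := F) (V := E) a = primSet (F := F) (V := E) (α : E) := by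
      simp only [primSet, hmin]
    have h := sum_primSet_sq (F := F) (V := E) (K := K) ι θ (adjoin_gen_aeval (α : E))
      (gen_ne_zero α.ne_zero) hm0
    rw [← hn, ← hc, ← hm, hP, hmin] at h
    have hr := rootSum_eq_orbSum ψ θ χ hχ α (F := F)
    rw [← hn] at hr
    have hr' : (n : ℂ) * conj (rootSum ι θ (minpoly F (α : E))) =
        (d : ℂ) * conj (orbSum F n χ α) := by
      simpa using congrArg (starRingEnd ℂ) hr
    have hd0 : (d : ℂ) ≠ 0 := Nat.cast_ne_zero.2 fun h => by rw [h, zero_mul] at hdm; omega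
    have hnC : (n : ℂ) ≠ 0 := Nat.cast_ne_zero.2 hn0.ne'
    set P := ∑ g ∈ primSet (F := F) (V := E) (α : E),
      phi ι θ (g : Module.End F E) * conj (phi ι θ (g : Module.End F E))
    have hdmC : (d : ℂ) * (m : ℂ) = n := by exact_mod_cast hdm
    rw [show (n : ℂ) * c * ((d : ℂ)⁻¹ * P) = (n : ℂ) * (c * P) * (d : ℂ)⁻¹ by ring, h]
    field_simp
    refine mul_left_cancel₀ hnC ?_
    linear_combination ((m : ℂ) * G * (n : ℂ) * conj (rootSum ι θ (minpoly F (α : E)))) * hr +
      ((m : ℂ) * G * (d : ℂ) * orbSum F n χ α) * hr' +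
      ((d : ℂ) * G * orbSum F n χ α * conj (orbSum F n χ α)) * hdmC
  have hsum := sum_eq_sum_primSet ψ θ
    (fun g : (Module.End F E)ˣ => phi ι θ (g : Module.End F E) *
      conj (phi ι θ (g : Module.End F E))) (fun g h e => h (by rw [e, zero_mul]))
  have h := Finset.sum_congr rfl fun α (_ : α ∈ (univ : Finset Eˣ)) => hper α
  rw [← Finset.mul_sum, ← hsum, ← Finset.mul_sum, hS] at h
  have hc0 : (n : ℂ) * c ≠ 0 := by
    rw [← hN]
    exact mul_ne_zero (Nat.cast_ne_zero.2 hn0.ne') (Nat.cast_ne_zero.2 Nat.card_pos.ne')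
  refine mul_left_cancel₀ hc0 ?_
  rw [h]
  ring

/-- The endomorphism multiplying by an element. -/
theorem exists_value [FiniteDimensional F E] (hχ : ∀ α : Eˣ, χ α = θ (ψ (α : E))) :
    ∀ α : Eˣ, ∃ (g : (Module.End F E)ˣ) (r : ℚ), r ≠ 0 ∧
      phi (ψ.comp (algebraMap F E)) θ (g : Module.End F E) =
        (r : ℂ) * orbSum F (Module.finrank F E) χ α := by
  intro α
  classical
  set K := IntermediateField.adjoin F ({(α : E)} : Set E)
  set a := IntermediateField.AdjoinSimple.gen F (α : E)
  set d := (minpoly F (α : E)).natDegree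
  set n := Module.finrank F E with hn
  set m := Module.finrank K E with hm
  have hn0 : 0 < n := Module.finrank_pos
  have hdm : d * m = n := natDegree_mul_finrank (α : E)
  have hd0 : d ≠ 0 := fun h => by rw [h, zero_mul] at hdm; omega
  obtain ⟨j, hj⟩ : ∃ j, m = j + 1 := ⟨m - 1, by
    have : m ≠ 0 := fun h => by rw [h, mul_zero] at hdm; omega
    omega⟩
  have hQ : 1 < Nat.card K := Finite.one_lt_card
  let w : ℚ := ∏ i ∈ range j, (1 - (Nat.card K : ℚ) ^ (i + 1))
  have hw0 : w ≠ 0 := Finset.prod_ne_zero_iff.2 fun i _ => sub_ne_zero.2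
    (ne_of_lt (one_lt_pow₀ (by exact_mod_cast hQ) i.succ_ne_zero))
  refine ⟨primU (F := F) a (0 : Module.End K E), -w * d / n, ?_, ?_⟩
  · exact div_ne_zero (mul_ne_zero (neg_ne_zero.2 hw0) (Nat.cast_ne_zero.2 hd0))
      (Nat.cast_ne_zero.2 hn0.ne')
  have hN : IsNilpotent (0 : Module.End K E) := IsNilpotent.zero
  rw [phi_primary _ θ (adjoin_gen_aeval (α : E)) hN
    (primU_apply (gen_ne_zero α.ne_zero) hN),
    show minpoly F a = minpoly F (α : E) from IntermediateField.minpoly_gen (F := F) (α : E)]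
  have hz : Module.finrank K (LinearMap.ker (0 : Module.End K E)) = j + 1 := by
    rw [show LinearMap.ker (0 : Module.End K E) = ⊤ from LinearMap.ker_zero, finrank_top, ← hm, hj]
  rw [hz]
  have hr := rootSum_eq_orbSum ψ θ χ hχ α (F := F)
  rw [← hn] at hr
  have hwC : fw (Nat.card K : ℂ) (j + 1) = (w : ℂ) := by simp [fw, w]
  rw [hwC]
  have hnC : (n : ℂ) ≠ 0 := Nat.cast_ne_zero.2 hn0.ne'
  push_cast
  refine mul_left_cancel₀ hnC ?_
  rw [show (n : ℂ) * (-(w : ℂ) * (d : ℂ) / (n : ℂ) * orbSum F n χ α) =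
    -(w : ℂ) * ((d : ℂ) * orbSum F n χ α) by field_simp]
  linear_combination -(w : ℂ) * hr

section cusp

variable {V : Type*} [AddCommGroup V] [Module F V] [FiniteDimensional F V] (ι : F →+* k)

theorem phi_unipotent (h1 : θ 1 = 1) {N : Module.End F V} (hN : IsNilpotent N) {g : Module.End F V}
    (hg : g = 1 + N) :
    phi ι θ g = -fw (Nat.card F) (Module.finrank F (LinearMap.ker N)) := by
  rw [phi_primary (K := F) (α := (1 : F)) ι θ (fun c => ⟨C c, by simp⟩) hN
    (fun v => by rw [hg, one_smul]; rfl), minpoly.one, rootSum]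
  rw [Polynomial.map_sub, Polynomial.map_X, Polynomial.map_one,
    show (X : k[X]) - 1 = X - C 1 by simp, roots_X_sub_C]
  simp [h1]

end cusp

end Cfsg.Agent.GLCusp
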