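/-
Cuspidal irreducible characters of the general linear group and their number.
-/
import Cfsg.Agent.Lib.GLCusp.Main
import Cfsg.Agent.Lib.Blocks.RegTrExact
import Cfsg.Agent.Lib.DefOne.Ring
import Cfsg.Agent.Lib.Char.Galois
import Cfsg.Agent.Lib.Char.Degree

set_option autoImplicit false
set_option linter.style.haveILetI false
set_option linter.unusedSectionVars false

namespace Cfsg.Agent.GLCusp

open Cfsg Finset Polynomial Cfsg.Agent.Blocks Cfsg.Agent.BrauerPairs
open scoped MatrixGroups ComplexConjugate

universe u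

section unipotent

variable {F : Type*} [Field F] [Finite F] {n m : ℕ}

/-- The inclusion of the first coordinates. -/
def inW (F : Type*) [Field F] (n m : ℕ) : (Fin m → F) →ₗ[F] (Fin n → F) where
  toFun w i := if h : i.val < m then w ⟨i.val, h⟩ else 0
  map_add' a b := funext fun i => by
    by_cases h : i.val < m <;> simp [h]
  map_smul' c a := funext fun i => by
    by_cases h : i.val < m <;> simp [h]

/-- The projection on the last coordinates. -/
def prU (F : Type*) [Field F] (n m : ℕ) (hm : m < n) : (Fin n → F) →ₗ[F] (Fin (n - m) → F) where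
  toFun x l := x ⟨m + l.val, by omega⟩
  map_add' _ _ := rfl
  map_smul' _ _ := rfl

/-- The inclusion of the last coordinates. -/
def inU (F : Type*) [Field F] (n m : ℕ) : (Fin (n - m) → F) →ₗ[F] (Fin n → F) where
  toFun u i := if h : m ≤ i.val then u ⟨i.val - m, by omega⟩ else 0
  map_add' a b := funext fun i => by
    by_cases h : m ≤ i.val <;> simp [h]
  map_smul' c a := funext fun i => by
    by_cases h : m ≤ i.val <;> simp [h]

theorem prU_inU (hm : m < n) (u : Fin (n - m) → F) : prU F n m hm (inU F n m u) = u := by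
  funext l
  simp [prU, inU]

theorem inW_injective (hm : m < n) : Function.Injective (inW F n m) := by
  intro a b h
  funext l
  have := congrFun h ⟨l.val, by omega⟩
  simpa [inW, l.2] using this

/-- The endomorphism of a block. -/
noncomputable def blockMat (hm : m < n) (A : (Fin (n - m) → F) →ₗ[F] (Fin m → F)) :
    Matrix (Fin n) (Fin n) F :=
  LinearMap.toMatrix' ((inW F n m).comp (A.comp (prU F n m hm)))

theorem blockMat_zero (hm : m < n) (A : (Fin (n - m) → F) →ₗ[F] (Fin m → F)) {i j : Fin n}
    (h : ¬ (i.val < m ∧ m ≤ j.val)) : blockMat hm A i j = 0 := by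
  rw [blockMat, LinearMap.toMatrix'_apply]
  by_cases hi : i.val < m
  · have hj : j.val < m := by omega
    have hp : prU F n m hm (fun k => if k = j then 1 else 0) = 0 := by
      funext l
      show (if _ = j then (1 : F) else 0) = 0
      rw [if_neg]
      intro e
      have := congrArg Fin.val e
      simp only at this
      omega
    simp only [LinearMap.comp_apply]
    rw [show (Pi.single j (1 : F) : Fin n → F) = fun k => if k = j then 1 else 0 by
      funext k; simp [Pi.single_apply], hp, map_zero, map_zero]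
    rfl
  · simp [inW, hi]

theorem blockMat_sq (hm : m < n) (A : (Fin (n - m) → F) →ₗ[F] (Fin m → F)) :
    blockMat hm A * blockMat hm A = 0 := by
  ext i l
  rw [Matrix.mul_apply, Matrix.zero_apply]
  refine Finset.sum_eq_zero fun j _ => ?_
  by_cases hj : j.val < m
  · rw [blockMat_zero hm A (i := i) (j := j) (by omega), zero_mul]
  · rw [blockMat_zero hm A (i := j) (j := l) (by omega), mul_zero]

theorem blockMat_injective (hm : m < n) : Function.Injective (blockMat (F := F) hm) := by
  intro A B h
  refine LinearMap.ext fun u => inW_injective hm ?_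
  have h1 : (inW F n m).comp (A.comp (prU F n m hm)) = (inW F n m).comp (B.comp (prU F n m hm)) :=
    LinearMap.toMatrix'.injective h
  simpa [prU_inU] using LinearMap.congr_fun h1 (inU F n m u)

theorem exists_blockMat (hm : m < n) (X : Matrix (Fin n) (Fin n) F)
    (hX : ∀ i j : Fin n, ¬ (i.val < m ∧ m ≤ j.val) → X i j = 0) :
    ∃ A, blockMat hm A = X := by
  classical
  let prW : (Fin n → F) →ₗ[F] (Fin m → F) :=
    { toFun := fun x l => x ⟨l.val, by omega⟩
      map_add' := fun _ _ => rfl
      map_smul' := fun _ _ => rfl }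
  refine ⟨prW.comp ((Matrix.toLin' X).comp (inU F n m)), ?_⟩
  ext i j
  rw [blockMat, LinearMap.toMatrix'_apply]
  by_cases hij : i.val < m ∧ m ≤ j.val
  · have hp : inU F n m (prU F n m hm (Pi.single j 1)) = Pi.single j 1 := by
      funext k
      by_cases hk : m ≤ k.val
      · simp [inU, prU, hk]
      · have hne : k ≠ j := fun e => hk (e ▸ hij.2)
        simp [inU, hk, hne]
    simp only [LinearMap.comp_apply, hp, Matrix.toLin'_apply, Matrix.mulVec_single_one]
    simp [inW, prW, hij.1]
  · rw [hX i j hij]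
    by_cases hi : i.val < m
    · have hj : j.val < m := by omega
      have hp : prU F n m hm (Pi.single j (1 : F)) = 0 := by
        funext l
        show (Pi.single j (1 : F) : Fin n → F) _ = 0
        refine Pi.single_eq_of_ne (fun e => ?_) _
        have := congrArg Fin.val e
        simp only at this
        omega
      simp [hp]
    · simp [inW, hi]

theorem finrank_ker_blockMat (hm : m < n) (A : (Fin (n - m) → F) →ₗ[F] (Fin m → F)) :
    Module.finrank F (LinearMap.ker (Matrix.toLin' (blockMat hm A))) =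
      m + Module.finrank F (LinearMap.ker A) := by
  rw [blockMat, Matrix.toLin'_toMatrix']
  set T := (inW F n m).comp (A.comp (prU F n m hm))
  have hr : LinearMap.range T = (LinearMap.range A).map (inW F n m) := by
    rw [LinearMap.range_comp, LinearMap.range_comp_of_range_eq_top]
    exact LinearMap.range_eq_top.2 fun u => ⟨inU F n m u, prU_inU hm u⟩
  have h1 := LinearMap.finrank_range_add_finrank_ker T
  have h2 := LinearMap.finrank_range_add_finrank_ker A
  rw [hr, ← (Submodule.equivMapOfInjective _ (inW_injective hm) (LinearMap.range A)).finrank_eq,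
    Module.finrank_fin_fun] at h1
  rw [Module.finrank_fin_fun] at h2
  omega

end unipotent

/-- The number of cuspidal irreducible characters of the general linear group. -/
theorem card_cuspidal {F : Type u} [Field F] [Fintype F] [DecidableEq F] (n : ℕ) (hn : 2 ≤ n)
    (S : Set (IrrCharacter (GL (Fin n) F)))
    (hS : ∀ χ : IrrCharacter (GL (Fin n) F),
      (χ : GL (Fin n) F → ℂ) 1 = ∏ i ∈ Finset.Ico 1 n, ((Fintype.card F : ℂ) ^ i - 1) →
      (∀ m : ℕ, 0 < m → m < n →
        ∀ T : Finset (GL (Fin n) F), (∀ g, g ∈ T ↔ ∀ i j : Fin n, ¬ (i.val < m ∧ m ≤ j.val) →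
          (g : Matrix (Fin n) (Fin n) F) i j = (1 : Matrix (Fin n) (Fin n) F) i j) →
        ∑ g ∈ T, (χ : GL (Fin n) F → ℂ) g = 0) → χ ∈ S) :
    Nat.totient (Fintype.card F ^ n - 1) / n ≤ Nat.card S := by
  classical
  obtain ⟨p, hp⟩ := CharP.exists F
  obtain ⟨-, hpr, -⟩ := FiniteField.card F p
  haveI : Fact p.Prime := ⟨hpr⟩
  haveI : NeZero n := ⟨by omega⟩
  let E := FiniteField.Extension F p n
  have hEn : Module.finrank F E = n := FiniteField.finrank_extension F p n
  have hEc : Nat.card E = Nat.card F ^ n := FiniteField.natCard_extension F p n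
  obtain ⟨M, hM⟩ := exists_isPModular_witness p
  haveI := IsPModular.isPrime hM
  haveI := resField_charP hM
  haveI : IsAlgClosed (resField M) := DefOne.isAlgClosed_resField
  letI : Algebra (ZMod p) (resField M) := ZMod.algebra _ p
  haveI : Algebra.IsAlgebraic (ZMod p) E := Algebra.IsAlgebraic.of_finite (ZMod p) E
  let ψ : E →+* resField M := (IsAlgClosed.lift : E →ₐ[ZMod p] resField M).toRingHom
  set θ := teich M p with hθ
  obtain ⟨hmul, hone, hpow, hθ1⟩ := teich_char hM ψ
  let χ : Eˣ →* ℂ :=
    { toFun := fun α => θ (ψ (α : E))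
      map_one' := by rw [Units.val_one, map_one]; exact hθ1
      map_mul' := fun a b => by rw [Units.val_mul]; exact hmul _ _ a.ne_zero b.ne_zero }
  have hχ : ∀ α : Eˣ, χ α = θ (ψ (α : E)) := fun α => rfl
  have hinj : Function.Injective χ := fun a b h => by
    have hb : χ b ≠ 0 := (IsUnit.map χ (Group.isUnit b)).ne_zero
    have h2 : χ (a * b⁻¹) * χ b = 1 * χ b := by
      rw [← map_mul, inv_mul_cancel_right, one_mul, h]
    have h3 := hone _ (a * b⁻¹).ne_zero (mul_right_cancel₀ hb h2)
    exact mul_inv_eq_one.1 (Units.ext h3)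
  letI := Fintype.ofFinite Eˣ
  set ι := ψ.comp (algebraMap F E) with hι
  let b : Module.Basis (Fin n) F E := Module.finBasisOfFinrankEq F E hEn
  let e : GL (Fin n) F ≃* (Module.End F E)ˣ :=
    Units.mapEquiv (LinearMap.toMatrixAlgEquiv b).symm.toMulEquiv
  letI : Fintype (Module.End F E)ˣ := Fintype.ofEquiv _ e.toEquiv
  let ρ : GL (Fin n) F →* Module.End F E :=
    (Units.coeHom (Module.End F E)).comp e.toMonoidHom
  set q : ℂ := (Fintype.card F : ℂ) with hq
  have hqN : (Nat.card F : ℂ) = q := by rw [hq, Nat.card_eq_fintype_card]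
  set π : GL (Fin n) F → ℂ := fun g => (-1) ^ n * phi ι θ (ρ g) with hπ
  -- a virtual character of norm one
  have hgen : IsGeneralizedCharacter (GL (Fin n) F) π := by
    have h := Cfsg.Agent.Char.IsGeneralizedCharacter.int_smul
      (isGeneralizedCharacter_phi ρ hM ι) ((-1) ^ n)
    convert h using 1
    funext g
    simp [π, θ]
  have hnorm : classInner π π = 1 := by
    have h := sum_phi_sq ψ θ χ hχ hinj (F := F)
    rw [Fintype.sum_equiv e.symm.toEquiv _ (fun g => phi ι θ (ρ g) * conj (phi ι θ (ρ g)))
      (fun g => by simp [ρ, ι]), ← Nat.card_congr e.toEquiv] at h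
    rw [classInner, inv_mul_eq_iff_eq_mul₀ (Nat.cast_ne_zero.2 Nat.card_pos.ne'), mul_one, ← h]
    refine Finset.sum_congr rfl fun g _ => ?_
    simp only [π, map_mul, map_pow, map_neg, map_one]
    rw [mul_mul_mul_comm, ← mul_pow, neg_one_mul, neg_neg, one_pow, one_mul]
  -- the degree
  have hdeg : π 1 = ∏ i ∈ Finset.Ico 1 n, (q ^ i - 1) := by
    have hN : IsNilpotent (0 : Module.End F E) := IsNilpotent.zero
    simp only [π]
    rw [map_one, phi_unipotent θ ι hθ1 hN (by rw [add_zero]),
      show LinearMap.ker (0 : Module.End F E) = ⊤ from LinearMap.ker_zero, finrank_top, hEn, hqN]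
    obtain ⟨j, rfl⟩ : ∃ j, n = j + 1 := ⟨n - 1, by omega⟩
    rw [Finset.prod_Ico_eq_prod_range, Nat.add_sub_cancel, fw,
      Finset.prod_congr rfl fun i _ => show q ^ (1 + i) - 1 = -1 * (1 - q ^ (i + 1)) by
        rw [add_comm]; ring,
      Finset.prod_mul_distrib, Finset.prod_const, Finset.card_range]
    ring
  have hirr : IsIrrCharacter (GL (Fin n) F) π := by
    rcases Cfsg.Agent.Char.IsGeneralizedCharacter.of_norm_one hgen hnorm with h | h
    · exact h
    · exfalso
      obtain ⟨c, hc⟩ := Cfsg.Agent.Char.IsCharacter.exists_degree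
        (Cfsg.Agent.Char.IsIrrCharacter.isCharacter h)
      rw [Pi.neg_apply, hdeg, neg_eq_iff_add_eq_zero] at hc
      have hP : (∏ i ∈ Finset.Ico 1 n, (q ^ i - 1)) =
          ((∏ i ∈ Finset.Ico 1 n, (Fintype.card F ^ i - 1) : ℕ) : ℂ) := by
        rw [Nat.cast_prod]
        refine Finset.prod_congr rfl fun i _ => ?_
        rw [Nat.cast_sub (Nat.one_le_pow _ _ Fintype.card_pos), Nat.cast_pow, Nat.cast_one]
      rw [hP] at hc
      have h0 : (∏ i ∈ Finset.Ico 1 n, (Fintype.card F ^ i - 1)) + c = 0 := by exact_mod_cast hc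
      have hpos : 0 < ∏ i ∈ Finset.Ico 1 n, (Fintype.card F ^ i - 1) :=
        Finset.prod_pos fun i hi => by
          have h2 : 2 ≤ Fintype.card F ^ i := Fintype.one_lt_card.trans_le
            (Nat.le_self_pow (by rw [Finset.mem_Ico] at hi; omega) _)
          omega
      omega
  -- cuspidality
  have hcusp : ∀ m : ℕ, 0 < m → m < n → ∀ T : Finset (GL (Fin n) F),
      (∀ g, g ∈ T ↔ ∀ i j : Fin n, ¬ (i.val < m ∧ m ≤ j.val) →
        (g : Matrix (Fin n) (Fin n) F) i j = (1 : Matrix (Fin n) (Fin n) F) i j) →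
      ∑ g ∈ T, π g = 0 := by
    intro m hm0 hm T hT
    haveI : Finite ((Fin (n - m) → F) →ₗ[F] (Fin m → F)) :=
      Finite.of_injective _ DFunLike.coe_injective
    letI := Fintype.ofFinite ((Fin (n - m) → F) →ₗ[F] (Fin m → F))
    have hu : ∀ A, IsUnit (1 + blockMat (F := F) hm A) := fun A =>
      IsNilpotent.isUnit_one_add ⟨2, by rw [pow_two, blockMat_sq]⟩
    have hsum : ∑ g ∈ T, π g = ∑ A, π (hu A).unit := by
      refine (Finset.sum_bij (fun A _ => (hu A).unit) (fun A _ => ?_) ?_ ?_
        (fun _ _ => rfl)).symm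
      · refine (hT _).2 fun i j hij => ?_
        rw [IsUnit.unit_spec, Matrix.add_apply, blockMat_zero hm A hij, add_zero]
      · intro A _ B _ h
        have h' := congrArg Units.val h
        rw [IsUnit.unit_spec, IsUnit.unit_spec] at h'
        exact blockMat_injective hm (add_left_cancel h')
      · intro g hg
        obtain ⟨A, hA⟩ := exists_blockMat hm ((g : Matrix (Fin n) (Fin n) F) - 1) fun i j hij => by
          rw [Matrix.sub_apply, (hT g).1 hg i j hij, sub_self]
        exact ⟨A, mem_univ _, Units.ext (by rw [IsUnit.unit_spec, hA, add_sub_cancel])⟩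
    have hval : ∀ A, π (hu A).unit = -(-1) ^ n *
        fw (Nat.card F : ℂ) (Module.finrank F (Fin m → F) + Module.finrank F (LinearMap.ker A)) := by
      intro A
      set N := (LinearMap.toMatrixAlgEquiv b).symm (blockMat hm A) with hN
      have hNn : IsNilpotent N := (IsNilpotent.map (R := Matrix (Fin n) (Fin n) F)
        ⟨2, by rw [pow_two, blockMat_sq]⟩ (LinearMap.toMatrixAlgEquiv b).symm : _)
      have hρ : ρ (hu A).unit = 1 + N := by
        show (LinearMap.toMatrixAlgEquiv b).symm ((hu A).unit : Matrix (Fin n) (Fin n) F) = _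
        rw [IsUnit.unit_spec, map_add, map_one]
      have hk : Module.finrank F (LinearMap.ker N) =
          m + Module.finrank F (LinearMap.ker A) := by
        rw [← finrank_ker_blockMat hm A]
        have hcomm : ∀ v, b.equivFun (N v) = Matrix.toLin' (blockMat hm A) (b.equivFun v) := by
          intro v
          rw [hN, LinearMap.toMatrixAlgEquiv_symm, Matrix.toLinAlgEquiv_apply, Matrix.toLin'_apply]
          funext i
          simp [Module.Basis.equivFun_apply, Finsupp.single_apply]
        have hmap : (LinearMap.ker N).map b.equivFun.toLinearMap =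
            LinearMap.ker (Matrix.toLin' (blockMat hm A)) := by
          ext x
          obtain ⟨v, rfl⟩ := b.equivFun.surjective x
          rw [Submodule.mem_map_equiv, LinearEquiv.symm_apply_apply, LinearMap.mem_ker,
            LinearMap.mem_ker, ← hcomm, map_eq_zero_iff _ b.equivFun.injective]
        rw [← hmap]
        exact LinearEquiv.finrank_eq (b.equivFun.submoduleMap (LinearMap.ker N))
      simp only [π]
      rw [phi_unipotent θ ι hθ1 hNn hρ, hk, Module.finrank_fin_fun]
      ring
    rw [hsum, Finset.sum_congr rfl fun A _ => hval A, ← Finset.mul_sum,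
      ← finsum_eq_sum_of_fintype, sum_hom_fw (by rw [Module.finrank_fin_fun]; omega),
      if_neg (by rw [Module.finrank_fin_fun]; omega), mul_zero]
  -- the conjugates
  set N := Fintype.card F ^ n - 1 with hNdef
  have hcard : Nat.card Eˣ = N := by
    rw [Nat.card_units, hEc, Nat.card_eq_fintype_card, hNdef]
  have hN0 : N ≠ 0 := hcard ▸ Nat.card_pos.ne'
  set A := (Finset.range N).filter N.Coprime with hA
  have hσ : ∀ a ∈ A, ∃ σ : ℂ ≃+* ℂ, ∀ z : ℂ, z ^ N = 1 → σ z = z ^ a := fun a ha =>
    Cfsg.Agent.CharGalois.exists_galoisAut hN0 ((Finset.mem_filter.1 ha).2.symm)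
  choose σ hσ using hσ
  have hmem : ∀ a (ha : a ∈ A),
      (⟨fun g => σ a ha (π g), Cfsg.Agent.CharGalois.IsIrrCharacter.twist hirr (σ a ha)⟩ :
        IrrCharacter (GL (Fin n) F)) ∈ S := by
    intro a ha
    refine hS _ ?_ fun m hm0 hm T hT => ?_
    · show σ a ha (π 1) = _
      rw [hdeg, map_prod]
      refine Finset.prod_congr rfl fun i _ => ?_
      rw [hq, map_sub, map_pow, map_natCast, map_one]
    · show ∑ g ∈ T, σ a ha (π g) = 0
      rw [← map_sum, hcusp m hm0 hm T hT, map_zero]
  let f : A → S := fun a => ⟨_, hmem a.1 a.2⟩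
  have hfib : ∀ a a' : A, f a = f a' → ∃ i < n, a'.1 = a.1 * Nat.card F ^ i % N := by
    intro a a' h
    have hfun : ∀ g, σ a.1 a.2 (π g) = σ a'.1 a'.2 (π g) := fun g =>
      congrFun (congrArg (fun z : S => ((z : IrrCharacter (GL (Fin n) F)) : GL (Fin n) F → ℂ)) h) g
    have hz : ∀ (α : Eˣ) (i : ℕ), (χ α ^ i) ^ N = 1 := fun α i => by
      rw [← pow_mul, mul_comm, pow_mul, ← map_pow, ← hcard, pow_card_eq_one', map_one, one_pow]
    have horb : ∀ α : Eˣ, ∑ i ∈ range n, χ α ^ (a.1 * Nat.card F ^ i) =
        ∑ i ∈ range n, χ α ^ (a'.1 * Nat.card F ^ i) := by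
      intro α
      obtain ⟨g, r, hr, hg⟩ := exists_value ψ θ χ hχ α (F := F)
      rw [hEn] at hg
      have h1 := hfun (e.symm g)
      have hρ : ρ (e.symm g) = (g : Module.End F E) := by simp [ρ]
      simp only [π, hρ, ← hι] at h1 hg
      rw [hg] at h1
      simp only [map_mul, map_pow, map_neg, map_one, map_ratCast, orbSum, map_sum] at h1
      have h2 := mul_left_cancel₀ (Rat.cast_ne_zero.2 hr)
        (mul_left_cancel₀ (pow_ne_zero n (neg_ne_zero.2 one_ne_zero)) h1)
      have h3 : ∀ (c : A) (i : ℕ), σ c.1 c.2 (χ α) ^ Nat.card F ^ i =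
          χ α ^ (c.1 * Nat.card F ^ i) := fun c i => by
        rw [hσ c.1 c.2 (χ α) (by simpa using hz α 1), ← pow_mul]
      simpa only [h3] using h2
    have hsum := congrArg (fun s => s) (Finset.sum_congr (s₁ := (univ : Finset Eˣ)) rfl
      fun α _ => congrArg (fun t => t * conj (χ α ^ a'.1)) (horb α))
    simp only [Finset.sum_mul] at hsum
    rw [Finset.sum_comm, Finset.sum_comm (γ := Eˣ)] at hsum
    simp only [sum_char_pow χ hinj, hcard] at hsum
    rw [← Finset.sum_filter, ← Finset.sum_filter, Finset.sum_const, Finset.sum_const,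
      nsmul_eq_mul, nsmul_eq_mul] at hsum
    have h4 := mul_right_cancel₀ (Nat.cast_ne_zero.2 hN0) hsum
    have h5 : 0 < ((range n).filter fun i => a'.1 * Nat.card F ^ i % N = a'.1 % N).card :=
      Finset.card_pos.2 ⟨0, mem_filter.2 ⟨mem_range.2 (by omega), by rw [pow_zero, mul_one]⟩⟩
    rw [← Nat.cast_injective h4] at h5
    obtain ⟨i, hi⟩ := Finset.card_pos.1 h5
    obtain ⟨hi1, hi2⟩ := mem_filter.1 hi
    refine ⟨i, mem_range.1 hi1, ?_⟩
    rw [hi2, Nat.mod_eq_of_lt (mem_range.1 (mem_filter.1 a'.2).1)]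
  -- the count
  haveI : Finite S := Subtype.finite
  letI := Fintype.ofFinite S
  have hb : (univ : Finset A).card ≤ n * (univ : Finset S).card := by
    refine Finset.card_le_mul_card_image_of_maps_to (f := f) (fun _ _ => mem_univ _) n fun s _ => ?_
    rcases ((univ : Finset A).filter fun a => f a = s).eq_empty_or_nonempty with h | ⟨a, ha⟩
    · rw [h, Finset.card_empty]; omega
    refine (Finset.card_le_card_of_injOn (fun a' : A => a'.1) (t := (range n).image fun i =>
      a.1 * Nat.card F ^ i % N) (fun a' ha' => ?_) Subtype.val_injective.injOn).trans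
      (Finset.card_image_le.trans (Finset.card_range n).le)
    obtain ⟨i, hi, he⟩ := hfib a a' ((mem_filter.1 ha).2.trans (mem_filter.1 ha').2.symm)
    exact mem_image.2 ⟨i, mem_range.2 hi, he.symm⟩
  refine Nat.div_le_of_le_mul ?_
  rw [Finset.card_univ, Finset.card_univ, Fintype.card_coe, ← Nat.card_eq_fintype_card] at hb
  rwa [Nat.totient_eq_card_coprime]

end Cfsg.Agent.GLCusp
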